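import Groth.Agent.H4GD.CanonType
import Groth.Agent.H4Gr.LinearSop
import Groth.Agent.H4Gr.Devissage
import Groth.Agent.H4Gr.SupportDim
import Groth.Agent.H4Depth.LocDepth
import Mathlib.RingTheory.Ideal.KrullsHeightTheorem

/-!
# Pieces of standard graded modules of depth at least two
-/

set_option autoImplicit false
set_option linter.unusedSectionVars false
set_option linter.style.haveILetI false

universe u

open DirectSum IsLocalRing

namespace Groth.Agent.H4Ver

variable {R : Type u} [CommRing R] [IsNoetherianRing R] {𝒜 : ℤ → AddSubgroup R} [GradedRing 𝒜]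
  (h0 : IsField (GrLC.deg0 𝒜)) {m : HomogeneousIdeal 𝒜}
  (hm : m.toIdeal = Ideal.span ((𝒜 1 : AddSubgroup R) : Set R)) [m.toIdeal.IsMaximal]
  (hloc : GrLC.IsStarLocal 𝒜 m)
variable {M : Type u} [AddCommGroup M] [Module R M] {ℳ : ℤ → AddSubgroup M} [Decomposition ℳ]
  [SetLike.GradedSMul 𝒜 ℳ] [Module.Finite R M]

include h0 hm hloc in
theorem two_le_finrank
    (hdep : (2 : ℕ∞) ≤ LocCoh.depth (Localization.AtPrime m.toIdeal) (LocalizedModule m.toIdeal.primeCompl M))
    {i : ℤ} {z : M} (hz : z ∈ ℳ i) (hz0 : z ≠ 0) {t : ℕ} (ht : 1 ≤ t) :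
    2 ≤ Module.finrank (GrLC.deg0 𝒜) (GrLC.comp 𝒜 ℳ (i + t)) := by
  letI := h0.toField
  let N : Submodule R M := Submodule.span R {z}
  have hI : ∀ a : R, a ∈ Module.annihilator R N ↔ a • z = 0 := fun a =>
    Submodule.mem_annihilator_span_singleton z a
  have hIhom : (Module.annihilator R N).IsHomogeneous 𝒜 := fun j a ha => by
    rw [hI] at ha ⊢
    have h := congrArg (H4Gr.proj ℳ (j + i)) ha
    rw [map_zero] at h
    have key : ∀ a : R, H4Gr.proj ℳ (j + i) (a • z) = H4Gr.proj 𝒜 j a • z := fun a => by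
      induction a using H4Gr.induction 𝒜 with
      | zero => simp
      | add u v hu hv => rw [add_smul, map_add, hu, hv, map_add, add_smul]
      | hom g a ha =>
        by_cases e : g = j
        · subst e; rw [H4Gr.proj_same ha, H4Gr.proj_same (H4Gr.smul_mem 𝒜 ha hz)]
        · rw [H4Gr.proj_ne ha e, zero_smul, H4Gr.proj_ne (H4Gr.smul_mem 𝒜 ha hz) (by omega)]
    rw [key] at h
    exact h
  have hIm : Module.annihilator R N ≤ m.toIdeal := by
    refine H4Gr.le_of_isStarLocal hloc hIhom fun htop => hz0 ?_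
    have := (hI 1).1 (htop ▸ Submodule.mem_top)
    rwa [one_smul] at this
  obtain ⟨P, hP, hPm⟩ := Ideal.exists_minimalPrimes_le hIm
  haveI : P.IsPrime := hP.1.1
  have hIP : Module.annihilator R N ≤ P := hP.1.2
  have hass : P ∈ associatedPrimes R M := associatedPrimes.subset_of_injective N.injective_subtype
    (Module.associatedPrimes.minimalPrimes_annihilator_subset_associatedPrimes R N hP)
  let A := Localization.AtPrime m.toIdeal
  have hdisj : Disjoint (m.toIdeal.primeCompl : Set R) P := Set.disjoint_left.2 fun x hx hxP => hx (hPm hxP)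
  let P' : Ideal A := P.map (algebraMap R A)
  haveI : P'.IsPrime := IsLocalization.isPrime_of_isPrime_disjoint m.toIdeal.primeCompl A P inferInstance hdisj
  have hass' : P' ∈ associatedPrimes A (LocalizedModule m.toIdeal.primeCompl M) :=
    Module.associatedPrimes.mem_associatedPrimes_of_comap_mem_associatedPrimes_of_isLocalizedModule
      m.toIdeal.primeCompl (LocalizedModule.mkLinearMap m.toIdeal.primeCompl M) P' (by
        show (P.map (algebraMap R A)).under R ∈ associatedPrimes R M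
        rw [IsLocalization.under_map_of_isPrime_disjoint m.toIdeal.primeCompl A inferInstance hdisj]
        exact hass)
  haveI : Module.Finite A (LocalizedModule m.toIdeal.primeCompl M) :=
    Module.Finite.of_isLocalizedModule m.toIdeal.primeCompl (LocalizedModule.mkLinearMap _ M)
  have hdim : ((2 : ℕ∞) : WithBot ℕ∞) ≤ ringKrullDim (A ⧸ P') :=
    (WithBot.coe_le_coe.2 hdep).trans (H4Depth.depth_le_ringKrullDim_quotient_of_mem_associatedPrimes hass')
  haveI : Nontrivial (A ⧸ P') := Ideal.Quotient.nontrivial_iff.2 (Ideal.IsPrime.ne_top ‹_›)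
  haveI : IsLocalRing (A ⧸ P') := IsLocalRing.of_surjective' (Ideal.Quotient.mk P') Ideal.Quotient.mk_surjective
  -- no linear form generates the maximal ideal modulo `P`
  have hprinc : ∀ x ∈ m.toIdeal, ¬ m.toIdeal ≤ P ⊔ Ideal.span {x} := by
    intro x hxm hx
    have hM : maximalIdeal (A ⧸ P') ≤ Ideal.span {Ideal.Quotient.mk P' (algebraMap R A x)} := by
      intro y hy
      obtain ⟨y, rfl⟩ := Ideal.Quotient.mk_surjective y
      have hy' : y ∈ maximalIdeal A := by
        rw [mem_maximalIdeal, mem_nonunits_iff] at hy ⊢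
        exact fun hu => hy (hu.map _)
      rw [← Localization.AtPrime.map_eq_maximalIdeal] at hy'
      have h1 := (Ideal.map_mono (f := algebraMap R A) hx) hy'
      rw [Ideal.map_sup, Ideal.map_span, Set.image_singleton] at h1
      obtain ⟨u, hu, v, hv, rfl⟩ := Submodule.mem_sup.1 h1
      rw [map_add, Ideal.Quotient.eq_zero_iff_mem.2 hu, zero_add]
      obtain ⟨c, rfl⟩ := Ideal.mem_span_singleton'.1 hv
      exact Ideal.mem_span_singleton'.2 ⟨Ideal.Quotient.mk P' c, (map_mul _ _ _).symm⟩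
    have hmem : Ideal.Quotient.mk P' (algebraMap R A x) ∈ maximalIdeal (A ⧸ P') := by
      rw [mem_maximalIdeal, mem_nonunits_iff]
      intro hu'
      haveI : IsLocalHom (Ideal.Quotient.mk P') := IsLocalHom.of_surjective _ Ideal.Quotient.mk_surjective
      have := (isUnit_map_iff (Ideal.Quotient.mk P') _).1 hu'
      exact ((IsLocalization.AtPrime.isUnit_to_map_iff A m.toIdeal x).1 this) hxm
    have heq : maximalIdeal (A ⧸ P') = Ideal.span {Ideal.Quotient.mk P' (algebraMap R A x)} :=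
      le_antisymm hM ((Ideal.span_singleton_le_iff_mem _).2 hmem)
    have hh : (maximalIdeal (A ⧸ P')).height ≤ 1 := by
      refine Ideal.height_le_one_of_isPrincipal_of_mem_minimalPrimes
        (Ideal.span {Ideal.Quotient.mk P' (algebraMap R A x)}) (maximalIdeal (A ⧸ P')) ?_
      rw [← heq, Ideal.minimalPrimes_eq_subsingleton_self]
      rfl
    rw [← IsLocalRing.maximalIdeal_height_eq_ringKrullDim] at hdim
    exact absurd ((WithBot.coe_le_coe.1 hdim).trans hh) (by decide)
  by_contra hlt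
  rw [not_le, Nat.lt_succ_iff] at hlt
  have hnotle : ¬ ∀ y ∈ 𝒜 1, y ∈ P := fun h => hprinc 0 (zero_mem _) (le_sup_of_le_left (hm ▸ Ideal.span_le.2 h))
  push Not at hnotle
  obtain ⟨x, hx, hxP⟩ := hnotle
  have hpow : ∀ (j : ℕ), x ^ j ∈ 𝒜 (j : ℤ) := fun j => by
    have := SetLike.pow_mem_graded j hx
    rwa [nsmul_one] at this
  have hmemP : ∀ w : R, w • z = 0 → w ∈ P := fun w hw => hIP ((hI w).2 hw)
  have hne : x ^ t • z ≠ 0 := fun h => hxP (Ideal.IsPrime.mem_of_pow_mem ‹_› t (hmemP _ h))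
  haveI : IsNoetherian (GrLC.deg0 𝒜) (GrLC.comp 𝒜 ℳ (i + t)) := H4Gr.isNoetherian_comp (i + t)
  have hmem : ∀ {w : R}, w ∈ 𝒜 (t : ℤ) → w • z ∈ GrLC.comp 𝒜 ℳ (i + t) := fun hw => by
    rw [add_comm]; exact H4Gr.smul_mem 𝒜 hw hz
  let v : GrLC.comp 𝒜 ℳ (i + t) := ⟨x ^ t • z, hmem (hpow t)⟩
  have hv : v ≠ 0 := fun h => hne (congrArg Subtype.val h)
  have h1 : Module.finrank (GrLC.deg0 𝒜) (GrLC.comp 𝒜 ℳ (i + t)) = 1 := by
    refine le_antisymm hlt (Nat.one_le_iff_ne_zero.2 fun h => hv ?_)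
    haveI := Module.finrank_zero_iff.1 h
    exact Subsingleton.elim _ _
  refine hprinc x (hm ▸ Ideal.subset_span hx) (hm.le.trans (Ideal.span_le.2 fun y hy => ?_))
  have hyt : x ^ (t - 1) * y ∈ 𝒜 (t : ℤ) := by
    have := SetLike.mul_mem_graded (hpow (t - 1)) (show y ∈ 𝒜 1 from hy)
    rwa [show ((t - 1 : ℕ) : ℤ) + 1 = t by omega] at this
  obtain ⟨c, hc⟩ := exists_smul_eq_of_finrank_eq_one h1 hv ⟨_, hmem hyt⟩
  have hc' : (c : R) • x ^ t • z = (x ^ (t - 1) * y) • z := congrArg Subtype.val hc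
  have hP2 : x ^ (t - 1) * (y - (c : R) * x) ∈ P := hmemP _ (by
    rw [mul_sub, sub_smul, ← hc', sub_eq_zero, ← mul_smul]
    congr 1
    conv_lhs => rw [show t = t - 1 + 1 by omega, pow_succ]
    ring)
  have hy2 := (Ideal.IsPrime.mem_or_mem ‹P.IsPrime› hP2).resolve_left fun h =>
    hxP (Ideal.IsPrime.mem_of_pow_mem ‹_› _ h)
  rw [show y = (y - (c : R) * x) + (c : R) * x by ring]
  exact add_mem (Submodule.mem_sup_left hy2) (Submodule.mem_sup_right (Ideal.mem_span_singleton'.2 ⟨c, rfl⟩))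

end Groth.Agent.H4Ver
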