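import Groth.Agent.H4Ver.Gor
import Groth.Agent.H4GD.CanonType

/-!
# Generators of Veronese modules and the type of Veronese subrings
-/

set_option autoImplicit false
set_option linter.unusedSectionVars false
set_option linter.style.haveILetI false

universe u

open DirectSum
open scoped TensorProduct

namespace Groth.Agent.H4Ver

section Std

variable {R : Type u} [CommRing R] {𝒜 : ℤ → AddSubgroup R} [GradedRing 𝒜]
  (hpos : ∀ n : ℤ, n < 0 → 𝒜 n = ⊥)
  (hstd : Ideal.span (⋃ n ∈ Set.Ioi (0 : ℤ), (𝒜 n : Set R)) = Ideal.span ((𝒜 1 : AddSubgroup R) : Set R))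

/-- The products of two pieces. -/
def prodPiece (𝒜 : ℤ → AddSubgroup R) (s t : ℤ) : AddSubgroup R :=
  AddSubgroup.closure {x | ∃ u ∈ 𝒜 s, ∃ v ∈ 𝒜 t, x = u * v}

include hstd in
theorem piece_succ {g : ℤ} (hg : 0 < g) {x : R} (hx : x ∈ 𝒜 g) : x ∈ prodPiece 𝒜 (g - 1) 1 := by
  have h1 : x ∈ Ideal.span ((𝒜 1 : AddSubgroup R) : Set R) :=
    hstd ▸ Ideal.subset_span (Set.mem_iUnion₂.2 ⟨g, hg, hx⟩)
  suffices H : ∀ z ∈ Ideal.span ((𝒜 1 : AddSubgroup R) : Set R), ∀ c : R,
      H4Gr.proj 𝒜 g (c * z) ∈ prodPiece 𝒜 (g - 1) 1 by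
    have h := H x h1 1
    rwa [one_mul, H4Gr.proj_same hx] at h
  intro z hz
  induction hz using Submodule.span_induction with
  | mem z hz =>
    intro c
    rw [mul_comm, ← smul_eq_mul, H4Gr.proj_smul hz g c, smul_eq_mul, mul_comm]
    exact AddSubgroup.subset_closure ⟨_, H4Gr.proj_mem 𝒜 _ c, z, hz, rfl⟩
  | zero => intro c; rw [mul_zero, map_zero]; exact zero_mem _
  | add a b _ _ ha hb => intro c; rw [mul_add, map_add]; exact add_mem (ha c) (hb c)
  | smul t a _ ha => intro c; rw [smul_eq_mul, ← mul_assoc]; exact ha (c * t)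

include hstd in
theorem piece_mul (t : ℕ) : ∀ {s : ℤ}, 0 ≤ s → ∀ {x : R}, x ∈ 𝒜 (s + t) → x ∈ prodPiece 𝒜 s t := by
  induction t with
  | zero =>
    intro s _ x hx
    exact AddSubgroup.subset_closure ⟨x, by simpa using hx, 1, by simpa using SetLike.one_mem_graded 𝒜, (mul_one x).symm⟩
  | succ t ih =>
    intro s hs x hx
    have h := piece_succ hstd (g := s + (t + 1 : ℕ)) (by push_cast; omega) hx
    rw [show s + ((t + 1 : ℕ) : ℤ) - 1 = s + t by push_cast; ring] at h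
    clear hx
    induction h using AddSubgroup.closure_induction with
    | mem y hy =>
      obtain ⟨c, hc, v, hv, rfl⟩ := hy
      have hc' := ih hs hc
      clear hc
      induction hc' using AddSubgroup.closure_induction with
      | mem z hz =>
        obtain ⟨u, hu, w, hw, rfl⟩ := hz
        refine AddSubgroup.subset_closure ⟨u, hu, w * v, ?_, mul_assoc _ _ _⟩
        push_cast
        exact SetLike.mul_mem_graded hw hv
      | zero => rw [zero_mul]; exact zero_mem _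
      | add a b _ _ ha hb => rw [add_mul]; exact add_mem ha hb
      | neg a _ ha => rw [neg_mul]; exact neg_mem ha
    | zero => exact zero_mem _
    | add a b _ _ ha hb => exact add_mem ha hb
    | neg a _ ha => exact neg_mem ha

variable {q : ℕ} {R' : Type u} [CommRing R'] {𝒜' : ℤ → AddSubgroup R'} [GradedRing 𝒜'] {φ : R' →+* R}
  (hφ : IsVerRing q φ 𝒜' 𝒜)
variable {M' : Type u} [AddCommGroup M'] [Module R' M'] {ℳ' : ℤ → AddSubgroup M'} [Decomposition ℳ']
  [SetLike.GradedSMul 𝒜' ℳ'] {a : ℤ} {g : M' →ₛₗ[φ] R} (hg : IsVer q g ℳ' (H4Gr.shiftPieces 𝒜 a))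
  {j₀ : ℤ} (hj₀ : 0 ≤ a + j₀ * q) (hj₀' : a + (j₀ - 1) * q < 0)

include hφ hpos hg hj₀' in
theorem eq_zero_of_lt {j : ℤ} (hj : j < j₀) {x : M'} (hx : x ∈ ℳ' j) : x = 0 := by
  have h : g x ∈ 𝒜 (j * q + a) := (hg.map_eq j).le ⟨x, hx, rfl⟩
  have : j * q ≤ (j₀ - 1) * q := mul_le_mul_of_nonneg_right (by omega) (Int.natCast_nonneg q)
  rw [hpos _ (by omega), AddSubgroup.mem_bot] at h
  exact hg.inj (h.trans (map_zero g).symm)

include hφ hpos hstd hg hj₀ hj₀' in
/-- The Veronese module of a shift is generated by one piece. -/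
theorem span_piece_eq_top : Submodule.span R' ((ℳ' j₀ : AddSubgroup M') : Set M') = ⊤ := by
  letI := (H4Gr.isInternal_shiftPieces (ℳ := 𝒜) a).chooseDecomposition
  refine Submodule.eq_top_iff'.2 fun x => ?_
  induction x using H4Gr.induction ℳ' with
  | zero => exact zero_mem _
  | add a b ha hb => exact add_mem ha hb
  | hom j x hx =>
    rcases lt_or_ge j j₀ with hj | hj
    · rw [eq_zero_of_lt hpos hφ hg hj₀' hj hx]; exact zero_mem _
    · have h : g x ∈ 𝒜 (j * q + a) := (hg.map_eq j).le ⟨x, hx, rfl⟩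
      obtain ⟨t, ht⟩ : ∃ t : ℕ, ((j - j₀) * q : ℤ) = t :=
        ⟨((j - j₀) * q).toNat, (Int.toNat_of_nonneg (mul_nonneg (by omega) (Int.natCast_nonneg q))).symm⟩
      have h' := piece_mul hstd t hj₀ (x := g x) (by rwa [← ht, show a + j₀ * q + (j - j₀) * q = j * q + a by ring])
      suffices H : ∀ y ∈ prodPiece 𝒜 (a + j₀ * q) t, ∃ z ∈ Submodule.span R' ((ℳ' j₀ : AddSubgroup M') : Set M'), g z = y by
        obtain ⟨z, hz, hzx⟩ := H _ h'
        exact hg.inj hzx ▸ hz
      intro y hy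
      induction hy using AddSubgroup.closure_induction with
      | mem y hy =>
        obtain ⟨u, hu, v, hv, rfl⟩ := hy
        obtain ⟨z, hz, hzu⟩ : ∃ z ∈ ℳ' j₀, g z = u := by
          have : u ∈ H4Gr.shiftPieces 𝒜 a (j₀ * q) := by show u ∈ 𝒜 (j₀ * q + a); rwa [add_comm]
          rw [← hg.map_eq] at this; exact this
        obtain ⟨b, -, hbv⟩ := exists_preimage hφ (j := j - j₀) (x := v) (by rwa [ht])
        exact ⟨b • z, Submodule.smul_mem _ b (Submodule.subset_span hz), by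
          rw [map_smulₛₗ, hbv, hzu, smul_eq_mul, mul_comm]⟩
      | zero => exact ⟨0, zero_mem _, map_zero g⟩
      | add a b _ _ ha hb =>
        obtain ⟨z, hz, e⟩ := ha; obtain ⟨w, hw, e'⟩ := hb
        exact ⟨z + w, add_mem hz hw, by rw [map_add, e, e']⟩
      | neg a _ ha =>
        obtain ⟨z, hz, e⟩ := ha
        exact ⟨-z, neg_mem hz, by rw [map_neg, e]⟩

include hφ hg in
theorem isNoetherian_shift [IsNoetherianRing R] : IsNoetherian R' M' := by
  letI := (H4Gr.isInternal_shiftPieces (ℳ := 𝒜) a).chooseDecomposition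
  haveI := H4Gr.gradedSMul_shiftPieces (𝒜 := 𝒜) (ℳ := 𝒜) a
  let P : Submodule R' M' → Ideal R := fun N => Ideal.span (g '' N)
  have key : ∀ N : Submodule R' M', ∀ z ∈ P N, ∀ r : R,
      verProj (H4Gr.shiftPieces 𝒜 a) q (r * z) ∈ g '' N := by
    intro N z hz
    induction hz using Submodule.span_induction with
    | mem z hz =>
      obtain ⟨x, hx, rfl⟩ := hz
      intro r
      induction r using H4Gr.induction 𝒜 with
      | zero => exact ⟨0, zero_mem _, by rw [zero_mul, map_zero, map_zero]⟩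
      | add u v hu hv =>
        obtain ⟨y, hy, e⟩ := hu; obtain ⟨y', hy', e'⟩ := hv
        exact ⟨y + y', add_mem hy hy', by rw [map_add, e, e', add_mul, map_add]⟩
      | hom i r hr =>
        by_cases hi : (q : ℤ) ∣ i
        · obtain ⟨c, rfl⟩ := hi
          obtain ⟨b, -, hb⟩ := exists_preimage hφ (j := c) (x := r) (by rwa [mul_comm])
          refine ⟨b • x, N.smul_mem b hx, ?_⟩
          rw [map_smulₛₗ, hb, ← smul_eq_mul, ← hb, verProj_smul (ℳ := H4Gr.shiftPieces 𝒜 a) hφ,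
            verProj_eq_self _ q (map_mem_verSet hφ hg x)]
        · refine ⟨0, zero_mem _, ?_⟩
          rw [map_zero]
          refine (H4Gr.ext_proj (H4Gr.shiftPieces 𝒜 a) fun l => ?_).symm
          rw [map_zero, proj_verProj]
          split_ifs with hl
          · rw [← smul_eq_mul, H4Gr.proj_smul hr, map_mem_verSet hφ hg x (l - i)
              fun h => hi (by simpa using dvd_sub hl h), smul_zero]
          · rfl
    | zero => exact fun r => ⟨0, zero_mem _, by rw [mul_zero, map_zero, map_zero]⟩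
    | add u v _ _ hu hv =>
      intro r
      obtain ⟨y, hy, e⟩ := hu r; obtain ⟨y', hy', e'⟩ := hv r
      exact ⟨y + y', add_mem hy hy', by rw [map_add, e, e', mul_add, map_add]⟩
    | smul t u _ hu => intro r; rw [smul_eq_mul, ← mul_assoc]; exact hu (r * t)
  refine isNoetherian_iff'.2 (StrictMono.wellFoundedGT (f := P) (Monotone.strictMono_of_injective
    (fun N N' h => Ideal.span_mono (Set.image_mono h)) fun N N' h => ?_))
  have le : ∀ N N' : Submodule R' M', P N ≤ P N' → N ≤ N' := fun N N' h x hx => by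
    obtain ⟨y, hy, e⟩ := key N' (g x) (h (Ideal.subset_span ⟨x, hx, rfl⟩)) 1
    rw [one_mul, verProj_eq_self _ q (map_mem_verSet hφ hg x)] at e
    exact hg.inj e ▸ hy
  exact le_antisymm (le N N' h.le) (le N' N h.ge)

end Std

section Gen

variable {R : Type u} [CommRing R] {𝒜 : ℤ → AddSubgroup R} [GradedRing 𝒜] (hpos : ∀ n : ℤ, n < 0 → 𝒜 n = ⊥)
  {m : HomogeneousIdeal 𝒜} (hm : m.toIdeal = Ideal.span (⋃ n ∈ Set.Ioi (0 : ℤ), (𝒜 n : Set R))) [m.toIdeal.IsMaximal]
variable {M : Type u} [AddCommGroup M] [Module R M] {ℳ : ℤ → AddSubgroup M} [Decomposition ℳ]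
  [SetLike.GradedSMul 𝒜 ℳ]

include hpos hm in
/-- The minimal number of generators of a module generated by its lowest piece. -/
theorem finrank_generators {j₀ : ℤ} (hgen : Submodule.span R ((ℳ j₀ : AddSubgroup M) : Set M) = ⊤)
    (hlow : ∀ j < j₀, ℳ j = ⊥) :
    Module.finrank (R ⧸ m.toIdeal) ((R ⧸ m.toIdeal) ⊗[R] M) = Module.finrank (GrLC.deg0 𝒜) (GrLC.comp 𝒜 ℳ j₀) := by
  let s : GrLC.deg0 𝒜 → R ⧸ m.toIdeal := fun c => Ideal.Quotient.mk m.toIdeal c
  have hres : ∀ r : R, r - H4Gr.proj 𝒜 0 r ∈ m.toIdeal := fun r => by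
    induction r using H4Gr.induction 𝒜 with
    | zero => rw [map_zero, sub_zero]; exact zero_mem _
    | add a b ha hb => rw [map_add, add_sub_add_comm]; exact add_mem ha hb
    | hom i r hr =>
      rcases lt_trichotomy i 0 with h | rfl | h
      · rw [(AddSubgroup.eq_bot_iff_forall _).1 (hpos i h) r hr, map_zero, sub_zero]; exact zero_mem _
      · rw [H4Gr.proj_same hr, sub_self]; exact zero_mem _
      · rw [H4Gr.proj_ne hr h.ne', sub_zero]
        exact hm ▸ Ideal.subset_span (Set.mem_iUnion₂.2 ⟨i, h, hr⟩)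
  have hproj : ∀ r ∈ m.toIdeal, ∀ (x : M), H4Gr.proj ℳ j₀ (r • x) = 0 := by
    intro r hr
    rw [hm] at hr
    induction hr using Submodule.span_induction with
    | mem r hr =>
      obtain ⟨i, hi, hr⟩ := Set.mem_iUnion₂.1 hr
      intro x
      rw [H4Gr.proj_smul hr, (AddSubgroup.eq_bot_iff_forall _).1
        (hlow (j₀ - i) (by have : (0 : ℤ) < i := hi; omega)) _ (H4Gr.proj_mem ℳ _ x), smul_zero]
    | zero => intro x; rw [zero_smul, map_zero]
    | add a b _ _ ha hb => intro x; rw [add_smul, map_add, ha, hb, add_zero]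
    | smul t a _ ha => intro x; rw [smul_eq_mul, mul_comm, mul_smul, ha (t • x)]
  have hs : Function.Bijective s := by
    refine ⟨fun a b h => Subtype.ext ?_, fun z => ?_⟩
    · have h' : (a : R) - b ∈ m.toIdeal := Ideal.Quotient.eq.1 h
      have h0 : (a : R) - b ∈ 𝒜 0 := sub_mem a.2 b.2
      have h2 : ∀ r ∈ m.toIdeal, H4Gr.proj 𝒜 0 r = 0 := fun r hr => by
        rw [hm] at hr
        suffices H : ∀ c : R, H4Gr.proj 𝒜 0 (c * r) = 0 by simpa using H 1
        induction hr using Submodule.span_induction with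
        | mem r hr =>
          obtain ⟨i, hi, hr⟩ := Set.mem_iUnion₂.1 hr
          intro c
          rw [mul_comm, ← smul_eq_mul, H4Gr.proj_smul hr 0 c,
            (AddSubgroup.eq_bot_iff_forall _).1 (hpos (0 - i) (by have : (0 : ℤ) < i := hi; omega)) _
              (H4Gr.proj_mem 𝒜 _ c), smul_zero]
        | zero => intro c; rw [mul_zero, map_zero]
        | add a b _ _ ha hb => intro c; rw [mul_add, map_add, ha c, hb c, add_zero]
        | smul t a _ ha => intro c; rw [smul_eq_mul, ← mul_assoc]; exact ha (c * t)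
      have := h2 _ h'
      rw [H4Gr.proj_same h0, sub_eq_zero] at this
      exact this
    · obtain ⟨r, rfl⟩ := Ideal.Quotient.mk_surjective z
      exact ⟨⟨_, H4Gr.proj_mem 𝒜 0 r⟩, (Ideal.Quotient.eq.2 (hres r)).symm⟩
  have hsmul : ∀ (r : R) (x : M), (1 : R ⧸ m.toIdeal) ⊗ₜ[R] (r • x) =
      Ideal.Quotient.mk m.toIdeal r • ((1 : R ⧸ m.toIdeal) ⊗ₜ[R] x) := fun r x => by
    rw [← TensorProduct.smul_tmul, TensorProduct.smul_tmul']
    congr 1
  let t : GrLC.comp 𝒜 ℳ j₀ →+ (R ⧸ m.toIdeal) ⊗[R] M :=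
    AddMonoidHom.mk' (fun x => (1 : R ⧸ m.toIdeal) ⊗ₜ[R] (x : M)) fun x y => TensorProduct.tmul_add 1 (x : M) y
  have hlin : ∀ (c : GrLC.deg0 𝒜) x, t (c • x) = s c • t x := fun c x => hsmul c x.1
  have ht : Function.Bijective t := by
    refine ⟨(injective_iff_map_eq_zero t).2 fun x hx => Subtype.ext ?_, fun z => ?_⟩
    · have h := congrArg (TensorProduct.quotTensorEquivQuotSMul M m.toIdeal) hx
      rw [map_zero] at h
      have h' : (x : M) ∈ m.toIdeal • (⊤ : Submodule R M) := by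
        rw [← Submodule.Quotient.mk_eq_zero, ← TensorProduct.quotTensorEquivQuotSMul_mk_one_tmul]
        exact h
      have hx2 : (x : M) ∈ ℳ j₀ := x.2
      rw [← H4Gr.proj_same hx2]
      show H4Gr.proj ℳ j₀ (x : M) = 0
      revert h'
      generalize (x : M) = y
      intro h'
      induction h' using Submodule.smul_induction_on' with
      | smul r hr y _ => exact hproj r hr y
      | add a _ b _ ha hb => rw [map_add, ha, hb, add_zero]
    · induction z using TensorProduct.induction_on with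
      | zero => exact ⟨0, map_zero t⟩
      | add a b ha hb => obtain ⟨a, rfl⟩ := ha; obtain ⟨b, rfl⟩ := hb; exact ⟨a + b, map_add t a b⟩
      | tmul z x =>
        obtain ⟨c, rfl⟩ := hs.2 z
        have hx : x ∈ Submodule.span R ((ℳ j₀ : AddSubgroup M) : Set M) := hgen ▸ Submodule.mem_top
        suffices H : ∃ y, t y = (1 : R ⧸ m.toIdeal) ⊗ₜ[R] x by
          obtain ⟨y, hy⟩ := H
          refine ⟨c • y, ?_⟩
          rw [hlin, hy, TensorProduct.smul_tmul', smul_eq_mul, mul_one]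
        clear c
        induction hx using Submodule.span_induction with
        | mem x hx => exact ⟨⟨x, hx⟩, rfl⟩
        | zero => exact ⟨0, by rw [map_zero, TensorProduct.tmul_zero]⟩
        | add a b _ _ ha hb =>
          obtain ⟨y, hy⟩ := ha; obtain ⟨w, hw⟩ := hb
          exact ⟨y + w, by rw [map_add, hy, hw, TensorProduct.tmul_add]⟩
        | smul r a _ ha =>
          obtain ⟨y, hy⟩ := ha
          obtain ⟨c, hc⟩ := hs.2 (Ideal.Quotient.mk m.toIdeal r)
          exact ⟨c • y, by rw [hlin, hy, hc, hsmul]⟩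
  exact (congrArg Cardinal.toNat (rank_eq_of_equiv_equiv s (AddEquiv.ofBijective t ht) hs hlin)).symm

end Gen

variable {R : Type u} [CommRing R] {𝒜 : ℤ → AddSubgroup R} [GradedRing 𝒜] {q : ℕ}
variable {R' : Type u} [CommRing R'] {𝒜' : ℤ → AddSubgroup R'} [GradedRing 𝒜'] {φ : R' →+* R}
  (hφ : IsVerRing q φ 𝒜' 𝒜)

include hφ in
/-- The type of a Veronese subring of a Gorenstein ring. -/
theorem bassNum_ver [LocCoh.IsGorensteinRing R] [LocCoh.IsCohenMacaulayRing R]
    (hpos : ∀ n : ℤ, n < 0 → 𝒜 n = ⊥) (h0 : IsField (GrLC.deg0 𝒜)) {m : HomogeneousIdeal 𝒜}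
    (hloc : GrLC.IsStarLocal 𝒜 m) (hm : m.toIdeal = Ideal.span (⋃ n ∈ Set.Ioi (0 : ℤ), (𝒜 n : Set R)))
    (hstd : Ideal.span (⋃ n ∈ Set.Ioi (0 : ℤ), (𝒜 n : Set R)) = Ideal.span ((𝒜 1 : AddSubgroup R) : Set R))
    {n : ℕ} (hn : ringKrullDim R = n) (I : GrLC.StarInjRes 𝒜 𝒜) {a : ℤ}
    (ha : GrLC.endDeg (I.Hgr m n) = ((a : WithTop ℤ) : WithBot (WithTop ℤ)))
    {m' : HomogeneousIdeal 𝒜'} [m'.toIdeal.IsMaximal]
    (hm' : m'.toIdeal = Ideal.span (⋃ j ∈ Set.Ioi (0 : ℤ), (𝒜' j : Set R')))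
    {j₀ : ℤ} (hj₀ : 0 ≤ a + j₀ * q) (hj₀' : a + (j₀ - 1) * q < 0) :
    GrLC.bassNum m'.toIdeal R' n = (Module.finrank (GrLC.deg0 𝒜) (GrLC.comp 𝒜 𝒜 (a + j₀ * q)) : ℕ∞) := by
  letI := h0.toField
  obtain ⟨s, hs⟩ := exists_deg0Hom hφ
  letI : Algebra (GrLC.deg0 𝒜) R' := s.toAlgebra
  haveI : Nontrivial R := nontrivial_of_ne 1 0 fun h => hloc.1.1 (HomogeneousIdeal.toIdeal_injective
    ((Ideal.eq_top_iff_one _).2 (h ▸ zero_mem _)))
  haveI : Nontrivial R' := φ.domain_nontrivial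
  haveI := isNoetherianRing hφ
  haveI := isCohenMacaulayRing_ver hφ hpos h0 hloc hm hn
  have hkk := hk' (k := GrLC.deg0 𝒜) hφ (fun c => hs c) fun c => c.2
  have hss := hsurj' (k := GrLC.deg0 𝒜) hφ (fun c => hs c) fun x hx => ⟨⟨x, hx⟩, rfl⟩
  have hloc' : GrLC.IsStarLocal 𝒜' m' := isStarLocal_of_span (hpos' hφ hpos) (H4GD.isField_deg0 hkk hss) hm'
  obtain ⟨I'⟩ := H4Gr.nonempty_starInjRes (𝒜 := 𝒜') (ℳ := 𝒜')
  obtain ⟨E', e', he'⟩ := exists_hull (𝒜 := 𝒜') hloc'
  letI : Module (GrLC.deg0 𝒜) E'.carrier := Module.compHom E'.carrier (algebraMap (GrLC.deg0 𝒜) R')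
  haveI : IsScalarTower (GrLC.deg0 𝒜) R' E'.carrier := IsScalarTower.of_algebraMap_smul fun _ _ => rfl
  letI : Module (GrLC.deg0 𝒜) (I'.H m' n) := Module.compHom (I'.H m' n) (algebraMap (GrLC.deg0 𝒜) R')
  haveI : IsScalarTower (GrLC.deg0 𝒜) R' (I'.H m' n) := IsScalarTower.of_algebraMap_smul fun _ _ => rfl
  letI := (H4Gr.isInternal_Hgr m' I' n).chooseDecomposition
  haveI := H4Gr.gradedSMul_Hgr m' I' n
  haveI : IsScalarTower (GrLC.deg0 𝒜) R (I.H m n) := IsScalarTower.of_algebraMap_smul fun _ _ => rfl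
  letI := (H4Gr.isInternal_Hgr m I n).chooseDecomposition
  haveI := H4Gr.gradedSMul_Hgr m I n
  obtain ⟨a', γ, ha', hγ⟩ := exists_gdual_gor (k := GrLC.deg0 𝒜) (fun c => c.2) (fun x hx => ⟨⟨x, hx⟩, rfl⟩)
    hpos hm hloc hn I
  obtain rfl : a = a' := by
    have h := ha.symm.trans ha'
    exact_mod_cast WithTop.coe_eq_coe.1 (WithBot.coe_eq_coe.1 h)
  obtain ⟨θ, hθ⟩ := exists_H_ver (m' := m') hφ hm hm' (ringVer hφ) I I' n
  letI := (H4Gr.isInternal_shiftPieces (ℳ := 𝒜) a).chooseDecomposition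
  haveI := H4Gr.gradedSMul_shiftPieces (𝒜 := 𝒜) (ℳ := 𝒜) a
  obtain ⟨X, g, hg⟩ := exists_ver hφ (H4Gr.shiftPieces 𝒜 a)
  haveI := isNoetherian_shift hφ hg
  letI : Module (GrLC.deg0 𝒜) X.carrier := Module.compHom X.carrier (algebraMap (GrLC.deg0 𝒜) R')
  haveI : IsScalarTower (GrLC.deg0 𝒜) R' X.carrier := IsScalarTower.of_algebraMap_smul fun _ _ => rfl
  have hC := H4GD.canonical_of_gdual hkk hss (hpos' hφ hpos) m' hm' n I' he'
    (gdual_ver hφ (fun c => hs c) hγ hθ hg)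
  let A := Localization.AtPrime m'.toIdeal
  haveI := LocCoh.IsCohenMacaulayRing.isCohenMacaulayLocalRing_localization (R := R') m'.toIdeal
  have hd : ringKrullDim A = n := by
    rw [IsLocalization.AtPrime.ringKrullDim_eq_height m'.toIdeal A,
      H4GD.height_eq (hpos' hφ hpos) hloc' ((ringKrullDim_eq hφ).trans hn)]; rfl
  obtain ⟨v, hv⟩ := H4GD.exists_hull_localized_star he'
  obtain ⟨eK⟩ := H4GD.nonempty_localized_canonical he' I' hC hv
  haveI : Module.Finite A (LocalizedModule m'.toIdeal.primeCompl X.carrier) :=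
    Module.Finite.of_isLocalizedModule m'.toIdeal.primeCompl (LocalizedModule.mkLinearMap _ X.carrier)
  obtain ⟨e₀⟩ := H4Depth.exists_localizedModule_self_equiv m'.toIdeal
  refine ((H4Gr.extRight _ e₀.toModuleIso n).length_eq.trans (H4GD.length_ext_canon hd hv eK).2).trans ?_
  rw [H4GD.length_residueField_tensor, finrank_generators (hpos' hφ hpos) hm'
    (span_piece_eq_top hpos hstd hφ hg hj₀ hj₀')
    fun j hj => (AddSubgroup.eq_bot_iff_forall _).2 fun x hx => eq_zero_of_lt hpos hφ hg hj₀' hj hx]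
  congr 1
  let u : GrLC.deg0 𝒜' → GrLC.deg0 𝒜 := fun b => ⟨φ b.1, show φ b.1 ∈ 𝒜 0 by
    simpa using map_mem hφ (show b.1 ∈ 𝒜' 0 from b.2)⟩
  have hu : Function.Bijective u := ⟨fun x y h => Subtype.ext (hφ.inj (congrArg Subtype.val h)), fun c => by
    obtain ⟨b, hb, hbc⟩ := exists_preimage hφ (j := 0) (x := (c : R)) (by rw [zero_mul]; exact c.2)
    exact ⟨⟨b, hb⟩, Subtype.ext hbc⟩⟩
  have hpiece : ∀ x ∈ X.gr j₀, g x ∈ 𝒜 (a + j₀ * q) := fun x hx => by
    have h : g x ∈ 𝒜 (j₀ * q + a) := ver_map_mem hφ hg hx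
    rwa [add_comm] at h
  let t : GrLC.comp 𝒜' X.gr j₀ →+ GrLC.comp 𝒜 𝒜 (a + j₀ * q) :=
    AddMonoidHom.mk' (fun y => ⟨g y.1, hpiece y.1 y.2⟩) fun x y => Subtype.ext (map_add g x.1 y.1)
  have ht : Function.Bijective t := ⟨fun x y h => Subtype.ext (hg.inj (congrArg Subtype.val h)), fun c => by
    obtain ⟨y, hy, hyc⟩ := ver_exists_preimage hφ hg (j := j₀) (y := (c : R))
      (show (c : R) ∈ 𝒜 (j₀ * q + a) by rw [add_comm]; exact c.2)
    exact ⟨⟨y, hy⟩, Subtype.ext hyc⟩⟩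
  exact congrArg Cardinal.toNat (rank_eq_of_equiv_equiv u (AddEquiv.ofBijective t ht) hu
    fun r y => Subtype.ext (map_smulₛₗ g r.1 y.1))

end Groth.Agent.H4Ver
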