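import Groth.Agent.H4Ver.Gor
import Groth.Agent.H4GD.CanonExists
import Groth.Agent.H4GD.Eta

/-!
# Extending elements across the vertex
-/

set_option autoImplicit false
set_option linter.unusedSectionVars false
set_option linter.style.haveILetI false

universe u

open DirectSum

namespace Groth.Agent.H4Ver

variable {R : Type u} [CommRing R] [IsNoetherianRing R]

theorem exists_regular_pair [LocCoh.IsCohenMacaulayRing R] (I : Ideal R) (hI : I ≠ ⊤) (h2 : (2 : ℕ∞) ≤ I.height) (N : ℕ) :
    ∃ s s', s ∈ I ^ N ∧ s' ∈ I ^ N ∧ IsSMulRegular R s ∧ ∀ r : R, (∃ b, s' * r = s * b) → ∃ b, r = s * b := by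
  have hN : I ^ (N + 1) ≠ ⊤ := fun h => hI (top_le_iff.1 (h.ge.trans (Ideal.pow_le_self N.succ_ne_zero)))
  have hh : (I ^ (N + 1)).height = I.height := by
    simp only [Ideal.height, ← Ideal.radical_minimalPrimes (I := I ^ (N + 1)), Ideal.radical_pow I N.succ_ne_zero,
      Ideal.radical_minimalPrimes]
  have hd : ((2 : ℕ) : ℕ∞) ≤ LocCoh.idealDepth (I ^ (N + 1)) R := by
    rw [(S14424.result R).1 inferInstance _ hN, hh]; exact h2
  obtain ⟨rs, hlen, hmem, hreg⟩ := H4Depth.exists_isWeaklyRegular_of_le_idealDepth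
    (by rwa [smul_eq_mul, Ideal.mul_top]) hd
  obtain ⟨s, s', rfl⟩ := List.length_eq_two.1 hlen
  rw [RingTheory.Sequence.isWeaklyRegular_cons_iff, RingTheory.Sequence.isWeaklyRegular_cons_iff] at hreg
  have hle : I ^ (N + 1) ≤ I ^ N := Ideal.pow_le_pow_right N.le_succ
  refine ⟨s, s', hle (hmem s (by simp)), hle (hmem s' (by simp)), hreg.1, fun r ⟨b, hb⟩ => ?_⟩
  have h : (Submodule.Quotient.mk r : QuotSMulTop s R) = 0 := hreg.2.1 (by
    show s' • (Submodule.Quotient.mk r : QuotSMulTop s R) = s' • 0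
    rw [smul_zero, ← Submodule.Quotient.mk_smul, Submodule.Quotient.mk_eq_zero, smul_eq_mul, hb]
    exact (Submodule.mem_smul_pointwise_iff_exists _ _ _).2 ⟨b, trivial, rfl⟩)
  obtain ⟨b', -, hb'⟩ := (Submodule.mem_smul_pointwise_iff_exists _ _ _).1 ((Submodule.Quotient.mk_eq_zero _).1 h)
  exact ⟨b', hb'.symm⟩

variable {M : Type u} [AddCommGroup M] [Module R M]

/-- In depth two a multiple of a torsion free generator is detected away from the vertex. -/
theorem exists_eq_smul_of_pow [LocCoh.IsCohenMacaulayRing R] {I : Ideal R} (hI : I ≠ ⊤) (h2 : (2 : ℕ∞) ≤ I.height)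
    (htor : ∀ (w : M) (N : ℕ), (∀ u ∈ I ^ N, u • w = 0) → w = 0) {z : M} (hz : ∀ r : R, r • z = 0 → r = 0)
    {y : M} {N : ℕ} (hy : ∀ u ∈ I ^ N, ∃ r : R, u • y = r • z) : ∃ r : R, y = r • z := by
  obtain ⟨s, s', hs, hs', hreg, hreg'⟩ := exists_regular_pair I hI h2 N
  choose f hf using hy
  have key : ∀ u (hu : u ∈ I ^ N) v (hv : v ∈ I ^ N), u * f v hv = v * f u hu := fun u hu v hv =>
    sub_eq_zero.1 (hz _ (by rw [sub_smul, mul_smul, mul_smul, ← hf v hv, ← hf u hu, smul_comm u v, sub_self]))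
  obtain ⟨b, hb⟩ := hreg' (f s hs) ⟨f s' hs', key s' hs' s hs⟩
  refine ⟨b, sub_eq_zero.1 (htor _ N fun u hu => ?_)⟩
  have h : s * f u hu = s * (u * b) := by rw [key s hs u hu, hb]; ring
  rw [smul_sub, hf u hu, hreg h, mul_smul, sub_self]

theorem eq_zero_of_pow_smul_eq_zero [Module.Finite R M] {I : Ideal R} [I.IsMaximal]
    (hdep : (1 : ℕ∞) ≤ LocCoh.depth (Localization.AtPrime I) (LocalizedModule I.primeCompl M))
    (w : M) (N : ℕ) (hw : ∀ u ∈ I ^ N, u • w = 0) : w = 0 := by
  let A := Localization.AtPrime I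
  let f := LocalizedModule.mkLinearMap I.primeCompl M
  haveI : Module.Finite A (LocalizedModule I.primeCompl M) := Module.Finite.of_isLocalizedModule I.primeCompl f
  have h0 : f w = 0 := by
    rcases subsingleton_or_nontrivial (LocalizedModule I.primeCompl M) with h | h
    · exact Subsingleton.elim _ _
    obtain ⟨rs, hlen, hmem, hreg⟩ := H4Depth.exists_isWeaklyRegular_of_le_idealDepth (n := 1)
      (H4Depth.maximalIdeal_smul_top_ne_top (R := A) (M := LocalizedModule I.primeCompl M)) hdep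
    obtain ⟨x, rfl⟩ := List.length_eq_one_iff.1 hlen
    rw [RingTheory.Sequence.isWeaklyRegular_cons_iff] at hreg
    have hxN : x ^ N ∈ (I ^ N).map (algebraMap R A) := by
      rw [Ideal.map_pow, Localization.AtPrime.map_eq_maximalIdeal]
      exact Ideal.pow_mem_pow (hmem x (by simp)) N
    refine (hreg.1.pow N) (show x ^ N • f w = x ^ N • 0 from ?_)
    rw [smul_zero]
    revert hxN
    generalize x ^ N = y
    intro hy
    induction hy using Submodule.span_induction with
    | mem y hy =>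
      obtain ⟨u, hu, rfl⟩ := hy
      rw [algebraMap_smul, ← map_smul, hw u hu, map_zero]
    | zero => exact zero_smul _ _
    | add a b _ _ ha hb => rw [add_smul, ha, hb, add_zero]
    | smul c a _ ha => rw [smul_eq_mul, mul_smul, ha, smul_zero]
  obtain ⟨c, hc⟩ := (IsLocalizedModule.eq_zero_iff I.primeCompl f).1 h0
  obtain ⟨v, hv⟩ : ∃ v : R, v * (c : R) - 1 ∈ I := by
    obtain ⟨v, i, hi, h⟩ := Ideal.IsMaximal.exists_inv ‹I.IsMaximal› c.2
    exact ⟨v, by rw [show v * (c : R) - 1 = -i by linear_combination h]; exact neg_mem hi⟩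
  have hmem := hw _ (Ideal.pow_mem_pow hv N)
  have : ∀ j : ℕ, (v * (c : R) - 1) ^ j • w = (-1 : R) ^ j • w := fun j => by
    induction j with
    | zero => simp
    | succ j ih => rw [pow_succ', mul_smul, ih, smul_comm, sub_smul, mul_smul, show (c : R) • w = 0 from hc, smul_zero,
        zero_sub, one_smul, smul_neg, pow_succ', mul_smul, neg_one_smul]
  rw [this] at hmem
  have h := congrArg ((-1 : R) ^ N • ·) hmem
  simpa [← mul_smul, ← mul_pow] using h

end Groth.Agent.H4Ver
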