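import Groth.Agent.H4Ver.Type
import Groth.Agent.H4Gr.LinearSop

/-!
# Standard graded rings of positive depth: the pieces are not smaller than two
-/

set_option autoImplicit false
set_option linter.unusedSectionVars false
set_option linter.style.haveILetI false

universe u

open DirectSum

namespace Groth.Agent.H4Ver

variable {R : Type u} [CommRing R] {𝒜 : ℤ → AddSubgroup R} [GradedRing 𝒜]

theorem span_pow_le (t : ℕ) :
    Ideal.span ((𝒜 1 : AddSubgroup R) : Set R) ^ t ≤ Ideal.span ((𝒜 (t : ℤ) : AddSubgroup R) : Set R) := by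
  induction t with
  | zero =>
    rw [pow_zero, Ideal.one_eq_top]
    exact ((Ideal.eq_top_iff_one _).2 (Ideal.subset_span (SetLike.one_mem_graded 𝒜))).ge
  | succ t ih =>
    rw [pow_succ]
    refine (Ideal.mul_mono_left ih).trans ?_
    rw [Ideal.span_mul_span']
    refine Ideal.span_mono ?_
    rintro _ ⟨a, ha, b, hb, rfl⟩
    show a * b ∈ 𝒜 ((t + 1 : ℕ) : ℤ)
    push_cast
    exact SetLike.mul_mem_graded ha hb

/-- A standard graded ring of positive depth has `dim R_t ≥ 2` for `t ≥ 1` as soon as `dim R_1 ≥ 2`. -/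
theorem two_le_finrank_piece [IsNoetherianRing R] (h0 : IsField (GrLC.deg0 𝒜)) {m : HomogeneousIdeal 𝒜}
    (hm : m.toIdeal = Ideal.span ((𝒜 1 : AddSubgroup R) : Set R))
    (hmsp : m.toIdeal = Ideal.span (⋃ n ∈ Set.Ioi (0 : ℤ), (𝒜 n : Set R)))
    (hgam : ∀ a ∈ GrLC.gam m.toIdeal R, a = 0)
    (hR1 : 2 ≤ Module.finrank (GrLC.deg0 𝒜) (GrLC.comp 𝒜 𝒜 1)) {t : ℕ} (ht : 1 ≤ t) :
    2 ≤ Module.finrank (GrLC.deg0 𝒜) (GrLC.comp 𝒜 𝒜 (t : ℤ)) := by
  letI := h0.toField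
  haveI : ∀ g, IsNoetherian (GrLC.deg0 𝒜) (GrLC.comp 𝒜 𝒜 g) := fun g => H4Gr.isNoetherian_comp g
  by_contra hlt
  rw [not_le, Nat.lt_succ_iff] at hlt
  -- an element of degree one killed by the whole piece of degree `t` is zero
  have hkill : ∀ y : R, (∀ u ∈ 𝒜 (t : ℤ), u * y = 0) → y = 0 := fun y hy => hgam y ⟨t, fun r hr => by
    have hr' := span_pow_le t (hm ▸ hr)
    clear hr
    induction hr' using Submodule.span_induction with
    | mem u hu => exact hy u hu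
    | zero => exact zero_smul _ _
    | add a b _ _ ha hb => rw [add_smul, ha, hb, add_zero]
    | smul c a _ ha => rw [smul_eq_mul, smul_eq_mul, mul_assoc, ← smul_eq_mul a y, ha, mul_zero]⟩
  rcases (Nat.le_one_iff_eq_zero_or_eq_one.1 hlt) with h | h
  · haveI := Module.finrank_zero_iff.1 h
    have : Subsingleton (GrLC.comp 𝒜 𝒜 1) := ⟨fun a b => Subtype.ext (sub_eq_zero.1 (hkill _ fun u hu => by
      have : (⟨u, hu⟩ : GrLC.comp 𝒜 𝒜 (t : ℤ)) = 0 := Subsingleton.elim _ _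
      rw [show u = 0 from congrArg Subtype.val this, zero_mul]))⟩
    rw [Module.finrank_zero_of_subsingleton] at hR1
    omega
  · obtain ⟨u₀, hu₀, hspan⟩ := finrank_eq_one_iff'.1 h
    -- some product `v * x` is nonzero
    obtain ⟨v, hv, x, hx, hvx⟩ : ∃ v ∈ 𝒜 ((t : ℤ) - 1), ∃ x ∈ 𝒜 1, v * x ≠ 0 := by
      by_contra hall
      push Not at hall
      refine hu₀ (Subtype.ext ?_)
      have h1 : (u₀ : R) ∈ Ideal.span ((𝒜 1 : AddSubgroup R) : Set R) := by
        rw [← hm, hmsp]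
        exact Ideal.subset_span (Set.mem_iUnion₂.2 ⟨(t : ℤ), show (0 : ℤ) < t by omega, u₀.2⟩)
      suffices H : ∀ z ∈ Ideal.span ((𝒜 1 : AddSubgroup R) : Set R), ∀ c : R,
          H4Gr.proj 𝒜 (t : ℤ) (c * z) = 0 by
        have h := H _ h1 1
        rwa [one_mul, H4Gr.proj_same (show (u₀ : R) ∈ 𝒜 (t : ℤ) from u₀.2)] at h
      intro z hz
      induction hz using Submodule.span_induction with
      | mem z hz =>
        intro c
        rw [mul_comm, ← smul_eq_mul, H4Gr.proj_smul hz (t : ℤ) c, smul_eq_mul, mul_comm]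
        exact hall _ (H4Gr.proj_mem 𝒜 _ c) z hz
      | zero => intro c; rw [mul_zero, map_zero]
      | add a b _ _ ha hb => intro c; rw [mul_add, map_add, ha c, hb c, add_zero]
      | smul s a _ ha => intro c; rw [smul_eq_mul, ← mul_assoc]; exact ha (c * s)
    have hmem : ∀ {y : R}, y ∈ 𝒜 1 → v * y ∈ 𝒜 (t : ℤ) := fun hy => by
      have := SetLike.mul_mem_graded hv hy
      rwa [sub_add_cancel] at this
    let f : GrLC.comp 𝒜 𝒜 1 →ₗ[GrLC.deg0 𝒜] GrLC.comp 𝒜 𝒜 (t : ℤ) :=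
      { toFun := fun y => ⟨v * y.1, hmem y.2⟩
        map_add' := fun a b => Subtype.ext (mul_add v a.1 b.1)
        map_smul' := fun c a => Subtype.ext (mul_left_comm v c.1 a.1) }
    have hf : Function.Injective f := (injective_iff_map_eq_zero f).2 fun y hy => Subtype.ext (hkill y.1 fun u hu => by
      have hy' : v * y.1 = 0 := congrArg Subtype.val hy
      have hne : (⟨v * x, hmem hx⟩ : GrLC.comp 𝒜 𝒜 (t : ℤ)) ≠ 0 := fun e => hvx (congrArg Subtype.val e)
      obtain ⟨c, hc⟩ := exists_smul_eq_of_finrank_eq_one h hne ⟨u, hu⟩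
      have hc' : c.1 * (v * x) = u := congrArg Subtype.val hc
      rw [← hc', show c.1 * (v * x) * y.1 = c.1 * x * (v * y.1) by ring, hy', mul_zero])
    have := LinearMap.finrank_le_finrank_of_injective hf
    omega

theorem finrank_deg0 (h0 : IsField (GrLC.deg0 𝒜)) : Module.finrank (GrLC.deg0 𝒜) (GrLC.comp 𝒜 𝒜 0) = 1 := by
  letI := h0.toField
  haveI := h0.nontrivial
  refine finrank_eq_one (⟨1, show (1 : R) ∈ 𝒜 0 from SetLike.one_mem_graded 𝒜⟩ : GrLC.comp 𝒜 𝒜 0) (fun h => ?_) fun w =>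
    ⟨⟨w.1, w.2⟩, Subtype.ext (mul_one w.1)⟩
  exact one_ne_zero (α := GrLC.deg0 𝒜) (Subtype.ext (congrArg Subtype.val h : (1 : R) = 0))

variable {q : ℕ} {R' : Type u} [CommRing R'] {𝒜' : ℤ → AddSubgroup R'} [GradedRing 𝒜'] {φ : R' →+* R}
  (hφ : IsVerRing q φ 𝒜' 𝒜)
  (hstd : Ideal.span (⋃ n ∈ Set.Ioi (0 : ℤ), (𝒜 n : Set R)) = Ideal.span ((𝒜 1 : AddSubgroup R) : Set R))

include hφ hstd in
/-- Veronese subrings of standard graded rings are standard graded. -/
theorem std_ver : Ideal.span (⋃ j ∈ Set.Ioi (0 : ℤ), (𝒜' j : Set R')) =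
    Ideal.span ((𝒜' 1 : AddSubgroup R') : Set R') := by
  refine le_antisymm (Ideal.span_le.2 fun x hx => ?_) (Ideal.span_mono fun x hx =>
    Set.mem_iUnion₂.2 ⟨1, show (0 : ℤ) < 1 from one_pos, hx⟩)
  obtain ⟨j, hj, hx⟩ := Set.mem_iUnion₂.1 hx
  have hj' : (0 : ℤ) < j := hj
  obtain ⟨t, ht⟩ : ∃ t : ℕ, ((j - 1) * q : ℤ) = t :=
    ⟨((j - 1) * q).toNat, (Int.toNat_of_nonneg (mul_nonneg (by omega) (Int.natCast_nonneg q))).symm⟩
  have h := piece_mul hstd t (s := (q : ℤ)) (Int.natCast_nonneg q) (x := φ x) (by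
    rw [← ht, show (q : ℤ) + (j - 1) * q = j * q by ring]; exact map_mem hφ hx)
  suffices H : ∀ y ∈ prodPiece 𝒜 (q : ℤ) t, ∃ z ∈ Ideal.span ((𝒜' 1 : AddSubgroup R') : Set R'), φ z = y by
    obtain ⟨z, hz, e⟩ := H _ h
    exact hφ.inj e ▸ hz
  intro y hy
  induction hy using AddSubgroup.closure_induction with
  | mem y hy =>
    obtain ⟨u, hu, v, hv, rfl⟩ := hy
    obtain ⟨a, ha, hau⟩ := exists_preimage hφ (j := 1) (x := u) (by rwa [one_mul])
    obtain ⟨b, -, hbv⟩ := exists_preimage hφ (j := j - 1) (x := v) (by rwa [ht])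
    exact ⟨a * b, Ideal.mul_mem_right _ _ (Ideal.subset_span ha), by rw [map_mul, hau, hbv]⟩
  | zero => exact ⟨0, zero_mem _, map_zero φ⟩
  | add a b _ _ ha hb =>
    obtain ⟨z, hz, e⟩ := ha; obtain ⟨w, hw, e'⟩ := hb
    exact ⟨z + w, add_mem hz hw, by rw [map_add, e, e']⟩
  | neg a _ ha =>
    obtain ⟨z, hz, e⟩ := ha
    exact ⟨-z, neg_mem hz, by rw [map_neg, e]⟩

end Groth.Agent.H4Ver
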