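import Groth.Agent.H4Gr.Lift
import Groth.Agent.H4Gr.Acyclic
import Mathlib.RingTheory.Finiteness.Basic

/-!
# Veronese rings and modules
-/

set_option autoImplicit false
set_option linter.unusedSectionVars false
set_option linter.style.haveILetI false

universe u

open DirectSum

namespace Groth.Agent.H4Ver

/-- A semilinear presentation of the `q`-th Veronese module. -/
structure IsVer {R R' : Type u} [CommRing R] [CommRing R'] {φ : R' →+* R} {M M' : Type u} [AddCommGroup M]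
    [Module R M] [AddCommGroup M'] [Module R' M'] (q : ℕ) (g : M' →ₛₗ[φ] M) (ℳ' : ℤ → AddSubgroup M')
    (ℳ : ℤ → AddSubgroup M) : Prop where
  inj : Function.Injective g
  map_eq : ∀ j : ℤ, (ℳ' j).map (g : M' →+ M) = ℳ (j * q)

/-- A presentation of the `q`-th Veronese ring. -/
structure IsVerRing {R R' : Type u} [CommRing R] [CommRing R'] (q : ℕ) (φ : R' →+* R) (𝒜' : ℤ → AddSubgroup R')
    (𝒜 : ℤ → AddSubgroup R) : Prop where
  pos : 0 < q
  inj : Function.Injective φ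
  map_eq : ∀ j : ℤ, (𝒜' j).map (φ : R' →+ R) = 𝒜 (j * q)

section Proj

variable {M : Type u} [AddCommGroup M] (ℳ : ℤ → AddSubgroup M) [Decomposition ℳ] (q : ℕ)

/-- Keep the components in degrees divisible by `q`. -/
def verProj : M →+ M :=
  (DirectSum.toAddMonoid fun g : ℤ => if (q : ℤ) ∣ g then (ℳ g).subtype else 0).comp
    (decomposeAddEquiv ℳ).toAddMonoidHom

theorem verProj_of_mem {g : ℤ} {x : M} (hx : x ∈ ℳ g) : verProj ℳ q x = if (q : ℤ) ∣ g then x else 0 := by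
  simp only [verProj, AddMonoidHom.comp_apply, AddEquiv.coe_toAddMonoidHom, decomposeAddEquiv_apply]
  rw [decompose_of_mem ℳ hx, DirectSum.toAddMonoid_of]
  split_ifs <;> rfl

theorem proj_verProj (g : ℤ) (x : M) :
    H4Gr.proj ℳ g (verProj ℳ q x) = if (q : ℤ) ∣ g then H4Gr.proj ℳ g x else 0 := by
  induction x using H4Gr.induction ℳ with
  | zero => simp
  | add a b ha hb =>
    rw [map_add, map_add, map_add, ha, hb]
    split_ifs <;> simp
  | hom i x hx =>
    rw [verProj_of_mem ℳ q hx]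
    by_cases h : i = g
    · subst h; split_ifs <;> simp
    · rw [H4Gr.proj_ne hx h]
      split_ifs <;> simp [H4Gr.proj_ne hx h]

/-- The elements supported in degrees divisible by `q`. -/
def verSet : AddSubgroup M where
  carrier := {x | ∀ g : ℤ, ¬ (q : ℤ) ∣ g → H4Gr.proj ℳ g x = 0}
  zero_mem' g _ := map_zero _
  add_mem' ha hb g hg := by rw [map_add, ha g hg, hb g hg, add_zero]
  neg_mem' ha g hg := by rw [map_neg, ha g hg, neg_zero]

theorem mem_verSet {x : M} : x ∈ verSet ℳ q ↔ ∀ g : ℤ, ¬ (q : ℤ) ∣ g → H4Gr.proj ℳ g x = 0 := Iff.rfl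

theorem verProj_eq_self {x : M} (hx : x ∈ verSet ℳ q) : verProj ℳ q x = x :=
  H4Gr.ext_proj ℳ fun g => by
    rw [proj_verProj]
    split_ifs with h
    · rfl
    · exact (hx g h).symm

theorem verProj_mem (x : M) : verProj ℳ q x ∈ verSet ℳ q := fun g hg => by rw [proj_verProj, if_neg hg]

theorem mem_verSet_of_mem {g : ℤ} (hg : (q : ℤ) ∣ g) {x : M} (hx : x ∈ ℳ g) : x ∈ verSet ℳ q := fun h hh =>
  H4Gr.proj_ne hx (fun e => hh (e ▸ hg))

end Proj

variable {R : Type u} [CommRing R] {𝒜 : ℤ → AddSubgroup R} [GradedRing 𝒜] {q : ℕ}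
variable {R' : Type u} [CommRing R'] {𝒜' : ℤ → AddSubgroup R'} [GradedRing 𝒜'] {φ : R' →+* R}
  (hφ : IsVerRing q φ 𝒜' 𝒜)

include hφ

theorem map_mem {j : ℤ} {b : R'} (hb : b ∈ 𝒜' j) : φ b ∈ 𝒜 (j * q) := hφ.map_eq j ▸ ⟨b, hb, rfl⟩

theorem exists_preimage {j : ℤ} {x : R} (hx : x ∈ 𝒜 (j * q)) : ∃ b ∈ 𝒜' j, φ b = x := by
  rw [← hφ.map_eq] at hx; exact hx

theorem q_ne_zero : (q : ℤ) ≠ 0 := Int.natCast_ne_zero.2 hφ.pos.ne'

section Mod

variable {M : Type u} [AddCommGroup M] [Module R M] {ℳ : ℤ → AddSubgroup M} [Decomposition ℳ]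
  [SetLike.GradedSMul 𝒜 ℳ]

theorem verProj_smul (b : R') (x : M) : verProj ℳ q (φ b • x) = φ b • verProj ℳ q x := by
  induction b using H4Gr.induction 𝒜' with
  | zero => simp
  | add a c ha hc => simp only [map_add, add_smul, ha, hc]
  | hom i b hb =>
    induction x using H4Gr.induction ℳ with
    | zero => simp
    | add a c ha hc => simp only [map_add, smul_add, ha, hc]
    | hom g x hx =>
      rw [verProj_of_mem ℳ q hx, verProj_of_mem ℳ q (H4Gr.smul_mem 𝒜 (map_mem hφ hb) hx)]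
      have hdiv : ((q : ℤ) ∣ i * q + g) ↔ (q : ℤ) ∣ g := dvd_add_right (dvd_mul_left _ i)
      split_ifs with h1 h2 h2
      · rfl
      · exact absurd (hdiv.1 h1) h2
      · exact absurd (hdiv.2 h2) h1
      · rw [smul_zero]

theorem smul_mem_verSet (b : R') {x : M} (hx : x ∈ verSet ℳ q) : φ b • x ∈ verSet ℳ q := by
  rw [← verProj_eq_self ℳ q hx, ← verProj_smul hφ]
  exact verProj_mem ℳ q _

variable {M' : Type u} [AddCommGroup M'] [Module R' M'] {ℳ' : ℤ → AddSubgroup M'} [Decomposition ℳ']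
  [SetLike.GradedSMul 𝒜' ℳ'] {g : M' →ₛₗ[φ] M} (hg : IsVer q g ℳ' ℳ)

include hg

theorem ver_map_mem {j : ℤ} {x : M'} (hx : x ∈ ℳ' j) : g x ∈ ℳ (j * q) := hg.map_eq j ▸ ⟨x, hx, rfl⟩

theorem ver_exists_preimage {j : ℤ} {y : M} (hy : y ∈ ℳ (j * q)) : ∃ x ∈ ℳ' j, g x = y := by
  rw [← hg.map_eq] at hy; exact hy

theorem proj_map (j : ℤ) (x : M') : H4Gr.proj ℳ (j * q) (g x) = g (H4Gr.proj ℳ' j x) := by
  induction x using H4Gr.induction ℳ' with
  | zero => simp
  | add a b ha hb => simp only [map_add, ha, hb]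
  | hom i x hx =>
    by_cases h : i = j
    · subst h; rw [H4Gr.proj_same hx, H4Gr.proj_same (ver_map_mem hφ hg hx)]
    · rw [H4Gr.proj_ne hx h, map_zero, H4Gr.proj_ne (ver_map_mem hφ hg hx)]
      exact fun e => h (mul_right_cancel₀ (q_ne_zero hφ) e)

theorem map_mem_verSet (x : M') : g x ∈ verSet ℳ q := by
  induction x using H4Gr.induction ℳ' with
  | zero => rw [map_zero]; exact zero_mem _
  | add a b ha hb => rw [map_add]; exact add_mem ha hb
  | hom i x hx => exact mem_verSet_of_mem ℳ q (dvd_mul_left _ i) (ver_map_mem hφ hg hx)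

theorem exists_preimage_verSet {y : M} (hy : y ∈ verSet ℳ q) : ∃ x, g x = y := by
  obtain ⟨s, hs, -⟩ := H4Gr.exists_sum_proj ℳ y
  have : ∀ i ∈ s, ∃ x, g x = H4Gr.proj ℳ i y := fun i _ => by
    by_cases hi : (q : ℤ) ∣ i
    · obtain ⟨j, rfl⟩ := hi
      obtain ⟨x, -, hx⟩ := ver_exists_preimage hφ hg (j := j) (y := H4Gr.proj ℳ ((q : ℤ) * j) y)
        (by rw [mul_comm]; exact H4Gr.proj_mem ℳ _ y)
      exact ⟨x, hx⟩
    · exact ⟨0, by rw [hy i hi, map_zero]⟩
  choose! x hx using this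
  exact ⟨∑ i ∈ s, x i, by rw [map_sum, Finset.sum_congr rfl hx, hs]⟩

end Mod

theorem ringVer : IsVer q (φ := φ) ({ toFun := φ, map_add' := map_add φ, map_smul' := map_mul φ } : R' →ₛₗ[φ] R) 𝒜' 𝒜 :=
  ⟨hφ.inj, hφ.map_eq⟩

theorem mem_range_iff {x : R} : x ∈ φ.range ↔ x ∈ verSet 𝒜 q :=
  ⟨fun ⟨b, hb⟩ => hb ▸ map_mem_verSet hφ (ringVer hφ) b, fun h => exists_preimage_verSet hφ (ringVer hφ) h⟩

theorem comap_map_eq (J : Ideal R') : (J.map φ).comap φ = J := by
  refine le_antisymm (fun b hb => ?_) Ideal.le_comap_map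
  have key : ∀ x ∈ J.map φ, ∀ r : R, ∃ s ∈ J, φ s = verProj 𝒜 q (r * x) := by
    intro x hx
    induction hx using Submodule.span_induction with
    | mem x hx =>
      obtain ⟨a, ha, rfl⟩ := hx
      intro r
      obtain ⟨s, hs⟩ := (mem_range_iff hφ).2 (verProj_mem 𝒜 q r)
      refine ⟨a * s, J.mul_mem_right s ha, ?_⟩
      rw [map_mul, hs, mul_comm r, ← smul_eq_mul, ← smul_eq_mul, verProj_smul hφ]
    | zero => exact fun r => ⟨0, zero_mem _, by simp⟩
    | add a c _ _ ha hc =>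
      intro r
      obtain ⟨s, hs, e⟩ := ha r
      obtain ⟨t, ht, e'⟩ := hc r
      exact ⟨s + t, add_mem hs ht, by rw [map_add, e, e', mul_add, map_add]⟩
    | smul t a _ ha =>
      intro r
      obtain ⟨s, hs, e⟩ := ha (r * t)
      exact ⟨s, hs, by rw [e, smul_eq_mul, mul_assoc]⟩
  obtain ⟨s, hs, e⟩ := key (φ b) hb 1
  rw [one_mul, verProj_eq_self 𝒜 q ((mem_range_iff hφ).1 ⟨b, rfl⟩)] at e
  exact hφ.inj e ▸ hs

theorem isNoetherianRing [IsNoetherianRing R] : IsNoetherianRing R' := by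
  refine isNoetherian_iff'.2 ?_
  exact StrictMono.wellFoundedGT (f := fun J : Ideal R' => J.map φ)
    (Monotone.strictMono_of_injective (fun _ _ h => Ideal.map_mono h) fun J K h => by
      rw [← comap_map_eq hφ J, ← comap_map_eq hφ K]; exact congrArg (Ideal.comap φ) h)

theorem isIntegral : φ.IsIntegral := fun x => by
  induction x using H4Gr.induction 𝒜 with
  | zero => exact φ.isIntegralElem_zero
  | add a b ha hb => exact ha.add φ hb
  | hom g x hx =>
    obtain ⟨b, -, hb⟩ := exists_preimage hφ (j := g) (x := x ^ q)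
      (by simpa [mul_comm] using SetLike.pow_mem_graded q hx)
    letI := φ.toAlgebra
    exact IsIntegral.of_pow (R := R') hφ.pos (hb ▸ φ.isIntegralElem_map)

section Construction

variable {M : Type u} [AddCommGroup M] [Module R M] (ℳ : ℤ → AddSubgroup M) [Decomposition ℳ]
  [SetLike.GradedSMul 𝒜 ℳ]

/-- The Veronese submodule exists. -/
theorem exists_ver : ∃ (X : GrLC.GMod.{u} 𝒜') (g : X.carrier →ₛₗ[φ] M), IsVer q g X.gr ℳ := by
  letI : Module R' M := Module.compHom M φ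
  let V : Submodule R' M :=
    { verSet ℳ q with smul_mem' := fun b x hx => smul_mem_verSet hφ b hx }
  let P : ℤ → AddSubgroup V := fun j => (ℳ (j * q)).comap V.toAddSubgroup.subtype
  let π : ℤ → V →+ V := fun j => AddMonoidHom.mk'
    (fun x => ⟨H4Gr.proj ℳ (j * q) x, mem_verSet_of_mem ℳ q (dvd_mul_left _ j) (H4Gr.proj_mem ℳ _ _)⟩)
    fun x y => Subtype.ext (map_add (H4Gr.proj ℳ (j * q)) (x : M) y)
  have hint : DirectSum.IsInternal P := by
    refine H4Gr.isInternal_of _ π (fun j x => H4Gr.proj_mem ℳ _ _) (fun j x hx i => Subtype.ext ?_) fun x => ?_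
    · show H4Gr.proj ℳ (i * q) (x : M) = _
      have hx' : (x : M) ∈ ℳ (j * q) := hx
      by_cases h : j = i
      · subst h; rw [if_pos rfl, H4Gr.proj_same hx']
      · rw [if_neg h, H4Gr.proj_ne hx' fun e => h (mul_right_cancel₀ (q_ne_zero hφ) e)]
        rfl
    · obtain ⟨s, hs, -⟩ := H4Gr.exists_sum_proj ℳ (x : M)
      have hmem : ∀ i, H4Gr.proj ℳ i (x : M) ∈ V := fun i => by
        by_cases hi : (q : ℤ) ∣ i
        · exact mem_verSet_of_mem ℳ q hi (H4Gr.proj_mem ℳ _ _)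
        · rw [x.2 i hi]; exact zero_mem _
      rw [show x = ∑ i ∈ s, (⟨_, hmem i⟩ : V) from Subtype.ext (by rw [Submodule.coe_sum]; exact hs.symm)]
      refine sum_mem fun i _ => ?_
      by_cases hi : (q : ℤ) ∣ i
      · obtain ⟨j, rfl⟩ := hi
        exact AddSubgroup.mem_iSup_of_mem j (by show _ ∈ ℳ (j * q); rw [mul_comm j]; exact H4Gr.proj_mem ℳ _ _)
      · rw [show (⟨_, hmem i⟩ : V) = 0 from Subtype.ext (x.2 i hi)]
        exact zero_mem _
  letI := hint.chooseDecomposition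
  haveI : SetLike.GradedSMul 𝒜' P := ⟨fun {i j b x} hb hx => by
    show φ b • (x : M) ∈ ℳ ((i + j) * q)
    rw [add_mul]
    exact H4Gr.smul_mem 𝒜 (map_mem hφ hb) hx⟩
  refine ⟨GrLC.GMod.of 𝒜' V P,
    { toFun := fun x : V => (x : M), map_add' := fun _ _ => rfl, map_smul' := fun _ _ => rfl },
    fun _ _ h => Subtype.ext h, fun j => le_antisymm ?_ fun y hy => ?_⟩
  · rintro _ ⟨x, hx, rfl⟩; exact hx
  · exact ⟨⟨y, mem_verSet_of_mem ℳ q (dvd_mul_left _ j) hy⟩, hy, rfl⟩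

end Construction

end Groth.Agent.H4Ver
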