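import Groth.Agent.H4Ver.Dual
import Groth.Agent.H4KS.RingCM
import Groth.Agent.H4GD.Alg
import Groth.Agent.H26Grass.DimLemma
import Groth.Agent.H29Curve.Trdeg

/-!
# Cohen–Macaulayness of graded rings over a field; dimension of Veronese subrings
-/

set_option autoImplicit false
set_option linter.unusedSectionVars false
set_option linter.style.haveILetI false

universe u

open DirectSum

namespace Groth.Agent.H4Ver

section CM

variable {k : Type u} [Field k] {R : Type u} [CommRing R] [Algebra k R] [IsNoetherianRing R]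
  {𝒜 : ℤ → AddSubgroup R} [inst : GradedRing 𝒜] (hk : ∀ c : k, algebraMap k R c ∈ 𝒜 0)
  (hsurj : ∀ x ∈ 𝒜 0, ∃ c : k, algebraMap k R c = x) (hpos : ∀ n : ℤ, n < 0 → 𝒜 n = ⊥)
  {m : HomogeneousIdeal 𝒜} (hm : m.toIdeal = Ideal.span (⋃ n ∈ Set.Ioi (0 : ℤ), (𝒜 n : Set R)))

include hk hsurj hpos hm in
/-- Vanishing of local cohomology below the dimension makes a graded ring Cohen–Macaulay. -/
theorem isCohenMacaulayRing_of_H [Nontrivial R] {n : ℕ} (hn : ringKrullDim R = n) (I : GrLC.StarInjRes 𝒜 𝒜)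
    (h : ∀ i < n, ∀ y : I.H m i, y = 0) : LocCoh.IsCohenMacaulayRing R := by
  let K : ℤ → Submodule k R := H4GD.kP (M := R) hk 𝒜
  letI : GradedAlgebra K :=
    { one_mem := inst.one_mem
      mul_mem := fun i j gi gj hi hj => inst.mul_mem hi hj
      decompose' := inst.decompose'
      left_inv := inst.left_inv
      right_inv := inst.right_inv }
  have hposK : ∀ j : ℤ, j < 0 → K j = ⊥ := fun j hj =>
    (Submodule.eq_bot_iff _).2 fun x hx => (AddSubgroup.eq_bot_iff_forall _).1 (hpos j hj) x hx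
  have h0 : K 0 = Submodule.span k {(1 : R)} := by
    refine le_antisymm (fun x hx => ?_) (Submodule.span_le.2 (Set.singleton_subset_iff.2 inst.one_mem))
    obtain ⟨c, rfl⟩ := hsurj x hx
    exact Submodule.mem_span_singleton.2 ⟨c, (Algebra.algebraMap_eq_smul_one c).symm⟩
  haveI : Algebra.FiniteType k R := H4KS.finiteType_of_noetherian hposK h0
  haveI : SetLike.GradedSMul K 𝒜 := ⟨fun {i j a b} ha hb => inst.mul_mem ha hb⟩
  let mK : HomogeneousIdeal K := ⟨m.toIdeal, fun i r hr => m.isHomogeneous i hr⟩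
  rw [H4KS.isCM_ring_iff, H4KS.isCM_iff_idealDepth (ℳ := 𝒜) hposK h0 mK hm (r := n)
    (by rw [Module.supportDim_self_eq_ringKrullDim, hn]), H4LC.le_idealDepth_iff_H]
  intro i hi
  obtain ⟨e⟩ := H4Gr.nonempty_H_equiv m I i
  refine @Equiv.subsingleton _ _ e.symm.toEquiv ⟨fun a b => (h i hi a).trans (h i hi b).symm⟩

end CM

variable {R : Type u} [CommRing R] {𝒜 : ℤ → AddSubgroup R} [GradedRing 𝒜] {q : ℕ}
variable {R' : Type u} [CommRing R'] {𝒜' : ℤ → AddSubgroup R'} [GradedRing 𝒜'] {φ : R' →+* R}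
  (hφ : IsVerRing q φ 𝒜' 𝒜)

include hφ in
theorem ringKrullDim_eq : ringKrullDim R' = ringKrullDim R :=
  le_antisymm (H29Curve.ringKrullDim_le_of_isIntegral φ (isIntegral hφ) hφ.inj) (by
    letI := φ.toAlgebra
    haveI : Algebra.IsIntegral R' R := ⟨isIntegral hφ⟩
    exact H26Grass.ringKrullDim_le_of_integral)

include hφ in
/-- Veronese subrings of Cohen–Macaulay rings are Cohen–Macaulay. -/
theorem isCohenMacaulayRing_ver [LocCoh.IsCohenMacaulayRing R] (hpos : ∀ n : ℤ, n < 0 → 𝒜 n = ⊥)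
    (h0 : IsField (GrLC.deg0 𝒜)) {m : HomogeneousIdeal 𝒜} (hloc : GrLC.IsStarLocal 𝒜 m)
    (hm : m.toIdeal = Ideal.span (⋃ n ∈ Set.Ioi (0 : ℤ), (𝒜 n : Set R)))
    {n : ℕ} (hn : ringKrullDim R = n) : LocCoh.IsCohenMacaulayRing R' := by
  letI := h0.toField
  obtain ⟨s, hs⟩ := exists_deg0Hom hφ
  letI : Algebra (GrLC.deg0 𝒜) R' := s.toAlgebra
  haveI : Nontrivial R := nontrivial_of_ne 1 0 fun h => hloc.1.1 (HomogeneousIdeal.toIdeal_injective
    ((Ideal.eq_top_iff_one _).2 (h ▸ zero_mem _)))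
  haveI : Nontrivial R' := φ.domain_nontrivial
  haveI := isNoetherianRing hφ
  let m' : HomogeneousIdeal 𝒜' := ⟨Ideal.span (⋃ j ∈ Set.Ioi (0 : ℤ), (𝒜' j : Set R')),
    Ideal.homogeneous_span _ _ fun x hx => by
      obtain ⟨j, -, hj⟩ := Set.mem_iUnion₂.1 hx
      exact ⟨j, hj⟩⟩
  obtain ⟨I⟩ := H4Gr.nonempty_starInjRes (𝒜 := 𝒜) (ℳ := 𝒜)
  obtain ⟨I'⟩ := H4Gr.nonempty_starInjRes (𝒜 := 𝒜') (ℳ := 𝒜')
  refine isCohenMacaulayRing_of_H (k := GrLC.deg0 𝒜) (hk' hφ (fun c => hs c) fun c => c.2)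
    (hsurj' hφ (fun c => hs c) fun x hx => ⟨⟨x, hx⟩, rfl⟩) (hpos' hφ hpos) (m := m') rfl
    ((ringKrullDim_eq hφ).trans hn) I' fun i hi y => ?_
  obtain ⟨θ, hθ⟩ := exists_H_ver (m' := m') hφ hm rfl (ringVer hφ) I I' i
  exact hθ.inj ((H4Gr.H_eq_zero_of_lt_dim hpos hloc hn hi I _).trans (map_zero θ).symm)

end Groth.Agent.H4Ver
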