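import Groth.Agent.H4Ver.Basic
import Groth.Agent.H4KS.Flasque
import Groth.Agent.H4KS.Seg
import Groth.Agent.H4KS.Compare

/-!
# Local cohomology of Veronese modules
-/

set_option autoImplicit false
set_option linter.unusedSectionVars false
set_option linter.style.haveILetI false

universe u

open DirectSum

namespace Groth.Agent.H4Ver

variable {R : Type u} [CommRing R] [IsNoetherianRing R] {𝒜 : ℤ → AddSubgroup R} [GradedRing 𝒜] {q : ℕ}
variable {R' : Type u} [CommRing R'] {𝒜' : ℤ → AddSubgroup R'} [GradedRing 𝒜'] {φ : R' →+* R}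
  (hφ : IsVerRing q φ 𝒜' 𝒜)
  {m : HomogeneousIdeal 𝒜} (hm : m.toIdeal = Ideal.span (⋃ n ∈ Set.Ioi (0 : ℤ), (𝒜 n : Set R)))
  {m' : HomogeneousIdeal 𝒜'} (hm' : m'.toIdeal = Ideal.span (⋃ j ∈ Set.Ioi (0 : ℤ), (𝒜' j : Set R')))

include hm in
theorem mem_of_pos {n : ℤ} (hn : 0 < n) {x : R} (hx : x ∈ 𝒜 n) : x ∈ m.toIdeal :=
  hm ▸ Ideal.subset_span (Set.mem_iUnion₂.2 ⟨n, hn, hx⟩)

include hφ hm hm'

theorem map_le : m'.toIdeal.map φ ≤ m.toIdeal := by
  rw [hm', Ideal.map_span, Ideal.span_le]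
  rintro _ ⟨b, hb, rfl⟩
  obtain ⟨j, hj, hb⟩ := Set.mem_iUnion₂.1 hb
  exact mem_of_pos hm (mul_pos hj (Int.natCast_pos.2 hφ.pos)) (map_mem hφ hb)

/-- Homogeneous parameters of the Veronese subring. -/
theorem exists_params : ∃ (r : ℕ) (f : Fin r → R') (d : Fin r → ℤ), (∀ l, f l ∈ 𝒜' (d l) ∧ f l ∈ m'.toIdeal) ∧
    m.toIdeal ≤ (Ideal.span (Set.range fun l => φ (f l))).radical := by
  classical
  obtain ⟨s, hsub, hs⟩ := (Submodule.fg_span_iff_fg_span_finset_subset (R := R)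
    (⋃ n ∈ Set.Ioi (0 : ℤ), (𝒜 n : Set R))).1 (IsNoetherian.noetherian _)
  have h : ∀ x : s, ∃ d, ∃ b ∈ 𝒜' d, b ∈ m'.toIdeal ∧ φ b = (x : R) ^ q := fun x => by
    obtain ⟨n, hn, hx⟩ := Set.mem_iUnion₂.1 (hsub x.2)
    obtain ⟨b, hb, hbx⟩ := exists_preimage hφ (j := n) (x := (x : R) ^ q)
      (by simpa [mul_comm] using SetLike.pow_mem_graded q hx)
    exact ⟨n, b, hb, hm' ▸ Ideal.subset_span (Set.mem_iUnion₂.2 ⟨n, hn, hb⟩), hbx⟩
  choose d b hb hbm hbx using h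
  refine ⟨s.card, fun l => b (s.equivFin.symm l), fun l => d (s.equivFin.symm l),
    fun l => ⟨hb _, hbm _⟩, ?_⟩
  rw [hm, Ideal.span, hs, ← Ideal.span, Ideal.span_le]
  intro x hx
  exact ⟨q, Ideal.subset_span ⟨s.equivFin ⟨x, hx⟩, by simp [hbx]⟩⟩

variable {M : Type u} [AddCommGroup M] [Module R M] {ℳ : ℤ → AddSubgroup M} [Decomposition ℳ]
  [SetLike.GradedSMul 𝒜 ℳ]
variable {M' : Type u} [AddCommGroup M'] [Module R' M'] {ℳ' : ℤ → AddSubgroup M'} [Decomposition ℳ']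
  [SetLike.GradedSMul 𝒜' ℳ'] {g : M' →ₛₗ[φ] M} (hg : IsVer q g ℳ' ℳ)

include hg in
theorem gam_iff (x : M') : x ∈ GrLC.gam m'.toIdeal M' ↔ g x ∈ GrLC.gam m.toIdeal M := by
  constructor
  · rintro ⟨n, hn⟩
    obtain ⟨r, f, d, hf, hrad⟩ := exists_params hφ hm hm'
    obtain ⟨e, he⟩ := Ideal.exists_pow_le_of_le_radical_of_fg hrad (IsNoetherian.noetherian _)
    refine ⟨e * n, fun c hc => ?_⟩
    have hle : Ideal.span (Set.range fun l => φ (f l)) ≤ m'.toIdeal.map φ :=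
      Ideal.span_le.2 fun _ ⟨l, hl⟩ => hl ▸ Ideal.mem_map_of_mem φ (hf l).2
    rw [pow_mul] at hc
    have hc' : c ∈ (m'.toIdeal ^ n).map φ := by
      rw [Ideal.map_pow]; exact Ideal.pow_right_mono (he.trans hle) n hc
    clear hc
    induction hc' using Submodule.span_induction with
    | mem c hc => obtain ⟨a, ha, rfl⟩ := hc; rw [← map_smulₛₗ g, hn a ha, map_zero]
    | zero => exact zero_smul _ _
    | add a c _ _ ha hc => rw [add_smul, ha, hc, add_zero]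
    | smul t a _ ha => rw [smul_eq_mul, mul_smul, ha, smul_zero]
  · rintro ⟨n, hn⟩
    refine ⟨n, fun b hb => hg.inj ?_⟩
    rw [map_smulₛₗ, map_zero]
    exact hn _ (Ideal.pow_right_mono (map_le hφ hm hm') n (Ideal.map_pow φ m'.toIdeal n ▸ Ideal.mem_map_of_mem φ hb))

omit hm hm'
variable {N : Type u} [AddCommGroup N] [Module R N] {𝒩 : ℤ → AddSubgroup N} [Decomposition 𝒩]
  [SetLike.GradedSMul 𝒜 𝒩]
variable {N' : Type u} [AddCommGroup N'] [Module R' N'] {𝒩' : ℤ → AddSubgroup N'} [Decomposition 𝒩']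
  [SetLike.GradedSMul 𝒜' 𝒩'] {gN : N' →ₛₗ[φ] N} (hgN : IsVer q gN 𝒩' 𝒩)

include hg hgN in
/-- Functoriality of the Veronese modules. -/
theorem exists_map {f : M →ₗ[R] N} (hf : GrLC.IsGrHom ℳ 𝒩 f) :
    ∃ f' : M' →ₗ[R'] N', GrLC.IsGrHom ℳ' 𝒩' f' ∧ ∀ x, gN (f' x) = f (g x) := by
  have h : ∀ x, ∃ y, gN y = f (g x) := fun x => exists_preimage_verSet hφ hgN fun i hi => by
    rw [← H4Gr.map_proj₀ hf, map_mem_verSet hφ hg x i hi, map_zero]
  choose y hy using h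
  refine ⟨{ toFun := y, map_add' := fun a b => hgN.inj ?_, map_smul' := fun r a => hgN.inj ?_ }, fun j x hx => ?_, hy⟩
  · simp only [map_add, hy]
  · simp only [map_smulₛₗ, hy, RingHom.id_apply]
  · obtain ⟨z, hz, hzx⟩ := ver_exists_preimage hφ hgN (hf _ _ (ver_map_mem hφ hg hx))
    show y x ∈ 𝒩' j
    rw [show y x = z from hgN.inj ((hy x).trans hzx.symm)]
    exact hz

include hm hm' in
/-- Veronese modules of *injective modules are acyclic. -/
theorem acyclic (hM : GrLC.IsStarInj 𝒜 ℳ) (hgM : IsVer q g ℳ' ℳ) (i : ℕ) :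
    Subsingleton (LocCoh.H m'.toIdeal (i + 1) M') := by
  haveI := isNoetherianRing hφ
  obtain ⟨r, f, d, hf, hrad⟩ := exists_params hφ hm hm'
  let Φ : GrLC.GMod.{u} 𝒜 → Prop := fun X => ∀ (X' : GrLC.GMod.{u} 𝒜') (gX : X'.carrier →ₛₗ[φ] X.carrier),
    IsVer q gX X'.gr X.gr → ∀ i, Subsingleton (LocCoh.H m'.toIdeal (i + 1) X'.carrier)
  refine H4KS.starInj_induction (R := R) (I := M) m.toIdeal (fun l => φ (f l)) (fun l => d l * q)
    (fun l => map_mem hφ (hf l).1) hrad Φ ?_ ?_ ?_ hM (GrLC.GMod.of 𝒜' M' ℳ') g hgM i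
  · intro A B C u v h hA hC B' gB hgB i
    obtain ⟨A', gA, hgA⟩ := exists_ver hφ A.gr
    obtain ⟨C', gC, hgC⟩ := exists_ver hφ C.gr
    obtain ⟨u', -, hu'⟩ := exists_map hφ hgA hgB h.gf
    obtain ⟨v', -, hv'⟩ := exists_map hφ hgB hgC h.gg
    refine H4LC.subsingleton_H_mid m'.toIdeal (f := u') (g := v')
      (fun a b hab => hgA.inj (h.inj (by rw [← hu', ← hu', hab]))) (fun c => ?_) (fun b => ?_)
      (i + 1) (hA A' gA hgA i) (hC C' gC hgC i)
    · obtain ⟨y, hy⟩ := h.surj (gC c)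
      obtain ⟨b, hb⟩ := exists_preimage_verSet hφ hgB (verProj_mem B.gr q y)
      refine ⟨b, hgC.inj ?_⟩
      rw [hv', hb]
      refine H4Gr.ext_proj C.gr fun j => ?_
      rw [← H4Gr.map_proj₀ h.gg, proj_verProj]
      by_cases hj : (q : ℤ) ∣ j
      · rw [if_pos hj, H4Gr.map_proj₀ h.gg, hy]
      · rw [if_neg hj, map_zero, map_mem_verSet hφ hgC c j hj]
    · constructor
      · intro hb
        obtain ⟨a, ha⟩ := (h.exact _).1 (show v (gB b) = 0 by rw [← hv', hb, map_zero])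
        obtain ⟨a', ha'⟩ := exists_preimage_verSet hφ hgA (y := a) fun j hj => h.inj (by
          rw [H4Gr.map_proj₀ h.gf, ha, map_mem_verSet hφ hgB b j hj, map_zero])
        exact ⟨a', hgB.inj (by rw [hu', ha', ha])⟩
      · rintro ⟨a, rfl⟩
        exact hgC.inj (by rw [hv', hu', h.exact.apply_apply_eq_zero, map_zero])
  · intro X hX X' gX hgX i
    exact H4LC.subsingleton_H_of_isPowerTorsion m'.toIdeal (i + 1) _
      (H4Gr.gam_iff_isPowerTorsion.2 (eq_top_iff.2 fun x _ =>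
        (gam_iff hφ hm hm' hgX x).2 (hX ▸ Submodule.mem_top))) i.succ_pos
  · intro X l hl X' gX hgX i
    refine H4KS.subsingleton_H_of_bijective (hf l).2 _ ⟨fun a b hab => hgX.inj (hl.1 ?_), fun y => ?_⟩ (i + 1)
    · show φ (f l) • gX a = φ (f l) • gX b
      rw [← map_smulₛₗ gX, ← map_smulₛₗ gX]; exact congrArg gX hab
    · obtain ⟨x, hx⟩ := hl.2 (gX y)
      obtain ⟨x', hx'⟩ := exists_preimage_verSet hφ hgX (verProj_mem X.gr q x)
      refine ⟨x', hgX.inj ?_⟩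
      show gX (f l • x') = gX y
      rw [map_smulₛₗ, hx', ← verProj_smul hφ]
      exact (congrArg (verProj X.gr q) hx).trans (verProj_eq_self X.gr q (map_mem_verSet hφ hgX y))

omit hφ in
theorem exists_descend {Z A B : Type u} [AddCommGroup Z] [Module R' Z] [AddCommGroup A] [Module R' A]
    [AddCommGroup B] [Module R B] (a : Z →ₗ[R'] A) (ha : Function.Surjective a) (b : Z →ₛₗ[φ] B)
    (hk : ∀ z, a z = 0 ↔ b z = 0) : ∃ θ : A →ₛₗ[φ] B, Function.Injective θ ∧ ∀ z, θ (a z) = b z := by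
  let θ : A →ₛₗ[φ] B :=
    ((LinearMap.ker a).liftQ b fun z hz => (hk z).1 hz).comp (a.quotKerEquivOfSurjective ha).symm.toLinearMap
  have hθ : ∀ z, θ (a z) = b z := fun z => by
    have e : (a.quotKerEquivOfSurjective ha).symm (a z) = Submodule.Quotient.mk z :=
      (LinearEquiv.symm_apply_eq _).2 rfl
    exact (congrArg ((LinearMap.ker a).liftQ b fun z hz => (hk z).1 hz) e).trans (Submodule.liftQ_apply _ _ _)
  refine ⟨θ, fun u v huv => ?_, hθ⟩
  obtain ⟨u, rfl⟩ := ha u; obtain ⟨v, rfl⟩ := ha v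
  rw [hθ, hθ, ← sub_eq_zero, ← map_sub, ← hk] at huv
  rwa [map_sub, sub_eq_zero] at huv

include hg in
/-- The Veronese resolution. -/
theorem exists_res (E : GrLC.StarInjRes 𝒜 ℳ) : ∃ (P : H4Gr.Res 𝒜' ℳ') (gX : ∀ n, (P.X n).carrier →ₛₗ[φ] (E.X n).carrier),
    (∀ n, IsVer q (gX n) (P.X n).gr (E.X n).gr) ∧ ∀ n x, gX (n + 1) (P.d n x) = E.d n (gX n x) := by
  choose X gX hgX using fun n => exists_ver hφ (E.X n).gr
  choose d hdg hd using fun n => exists_map hφ (hgX n) (hgX (n + 1)) (E.d_grHom n)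
  obtain ⟨ε, hεg, hε⟩ := exists_map hφ hg (hgX 0) E.ε_grHom
  have hkerrange : ∀ {A : Type u} [AddCommGroup A] [Module R A] {𝒳 : ℤ → AddSubgroup A} [Decomposition 𝒳]
      [SetLike.GradedSMul 𝒜 𝒳] {n : ℕ} (u : A →ₗ[R] (E.X n).carrier), GrLC.IsGrHom 𝒳 (E.X n).gr u →
      ∀ x, gX n x ∈ LinearMap.range u → ∃ a ∈ verSet 𝒳 q, u a = gX n x := by
    intro A _ _ 𝒳 _ _ n u hu x ⟨a, ha⟩
    refine ⟨verProj 𝒳 q a, verProj_mem 𝒳 q a, H4Gr.ext_proj (E.X n).gr fun j => ?_⟩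
    rw [← H4Gr.map_proj₀ hu, proj_verProj]
    by_cases hj : (q : ℤ) ∣ j
    · rw [if_pos hj, H4Gr.map_proj₀ hu, ha]
    · rw [if_neg hj, map_zero, map_mem_verSet hφ (hgX n) x j hj]
  let P : H4Gr.Res 𝒜' ℳ' :=
    { X := X, d := d, ε := ε, d_grHom := hdg, ε_grHom := hεg
      ε_injective := fun a b h => hg.inj (E.ε_injective (by rw [← hε, ← hε, h]))
      exact_zero := by
        refine le_antisymm (fun x hx => ?_) ?_
        · obtain ⟨a, ha, hax⟩ := hkerrange E.ε E.ε_grHom x (E.exact_zero.le (show E.d 0 (gX 0 x) = 0 by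
            rw [← hd, LinearMap.mem_ker.1 hx, map_zero]))
          obtain ⟨a', rfl⟩ := exists_preimage_verSet hφ hg ha
          exact ⟨a', (hgX 0).inj (by rw [hε, hax])⟩
        · rintro _ ⟨a, rfl⟩
          exact (hgX 1).inj (by rw [hd, hε, map_zero]; exact LinearMap.mem_ker.1 (E.exact_zero.ge ⟨g a, rfl⟩))
      exact_succ := fun n => by
        refine le_antisymm (fun x hx => ?_) ?_
        · obtain ⟨a, ha, hax⟩ := hkerrange (E.d n) (E.d_grHom n) x ((E.exact_succ n).le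
            (show E.d (n + 1) (gX (n + 1) x) = 0 by rw [← hd, LinearMap.mem_ker.1 hx, map_zero]))
          obtain ⟨a', rfl⟩ := exists_preimage_verSet hφ (hgX n) ha
          exact ⟨a', (hgX (n + 1)).inj (by rw [hd, hax])⟩
        · rintro _ ⟨a, rfl⟩
          exact (hgX (n + 2)).inj (by
            rw [hd, hd, map_zero]; exact LinearMap.mem_ker.1 ((E.exact_succ n).ge ⟨_, rfl⟩)) }
  exact ⟨P, gX, hgX, hd⟩

include hm hm' hg in
/-- `H^p_{m'}(M^{(q)}) = H^p_m(M)^{(q)}`. -/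
theorem exists_H_ver (E : GrLC.StarInjRes 𝒜 ℳ) (F : GrLC.StarInjRes 𝒜' ℳ') (p : ℕ) :
    ∃ θ : F.H m' p →ₛₗ[φ] E.H m p, IsVer q θ (F.Hgr m' p) (E.Hgr m p) := by
  haveI := isNoetherianRing hφ
  obtain ⟨P, gX, hgX, hd⟩ := exists_res hφ hg E
  let X := P.X
  let d := P.d
  obtain ⟨w, hw, hwd, hwc, hsur, hinj0, hinj⟩ := H4KS.exists_comparison m' P F
    fun n i => acyclic hφ hm hm' (E.starInj n) (hgX n) i
  let Z : Submodule R' (X p).carrier :=
    GrLC.gam m'.toIdeal (X p).carrier ⊓ LinearMap.ker (d p)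
  have hgam : ∀ n x, x ∈ GrLC.gam m'.toIdeal (X n).carrier ↔ gX n x ∈ GrLC.gam m.toIdeal (E.X n).carrier :=
    fun n x => gam_iff hφ hm hm' (hgX n) x
  let a : Z →ₗ[R'] F.H m' p := F.toH m' p ∘ₗ ((w p ∘ₗ Z.subtype).codRestrict (F.cocyc m' p)
    fun z => hwc p z.1 z.2.1 z.2.2)
  have hzc : ∀ z : Z, gX p z.1 ∈ E.cocyc m p := fun z => ⟨(hgam p z.1).1 z.2.1, LinearMap.mem_ker.2 (by
    rw [← hd, LinearMap.mem_ker.1 z.2.2, map_zero])⟩
  let b : Z →ₛₗ[φ] E.H m p := (E.toH m p).comp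
    ({ toFun := fun z => ⟨gX p z.1, hzc z⟩
       map_add' := fun x y => Subtype.ext (map_add (gX p) x.1 y.1)
       map_smul' := fun r x => Subtype.ext (map_smulₛₗ (gX p) r x.1) } : Z →ₛₗ[φ] E.cocyc m p)
  have hsurj : Function.Surjective a := by
    intro y
    letI := (H4Gr.isInternal_Hgr m' F p).chooseDecomposition
    induction y using H4Gr.induction (F.Hgr m' p) with
    | zero => exact ⟨0, map_zero a⟩
    | add u v hu hv =>
      obtain ⟨u, rfl⟩ := hu; obtain ⟨v, rfl⟩ := hv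
      exact ⟨u + v, map_add a u v⟩
    | hom j y hy =>
      obtain ⟨z, hz, rfl⟩ := hy
      obtain ⟨x, hx, hxd, -, hxz⟩ := hsur p j z hz
      exact ⟨⟨x, hx, hxd⟩, (H4Gr.toH_eq_iff m' p _ z).2 hxz⟩
  have hker : ∀ z, a z = 0 ↔ b z = 0 := fun z => by
    rw [show a z = F.toH m' p ⟨w p z.1, hwc p z.1 z.2.1 z.2.2⟩ from rfl,
      show b z = E.toH m p ⟨gX p z.1, hzc z⟩ from rfl, H4Gr.toH_eq_zero_iff, H4Gr.toH_eq_zero_iff]
    revert z
    cases p with
    | zero =>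
      intro z
      constructor
      · intro h
        have h0 : z.1 = 0 := hinj0 z.1 z.2.2 ((Submodule.mem_bot _).1 h)
        show gX 0 z.1 ∈ E.cobdy m 0
        simp only [h0, map_zero, zero_mem]
      · intro h
        have h0 : z.1 = 0 := (hgX 0).inj (((Submodule.mem_bot _).1 h).trans (map_zero _).symm)
        show w 0 z.1 ∈ F.cobdy m' 0
        simp only [h0, map_zero, zero_mem]
    | succ n =>
      intro z
      constructor
      · intro h
        obtain ⟨y, hy, hyz⟩ := hinj n z.1 z.2.1 z.2.2 h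
        exact ⟨gX n y, (hgam n y).1 hy, by rw [← hd]; exact congrArg (gX (n + 1)) hyz⟩
      · rintro ⟨e, he, hez⟩
        have hze : gX (n + 1) z.1 ∈ LinearMap.range (E.d n) := ⟨e, hez⟩
        let e' := verProj (E.X n).gr q e
        obtain ⟨y, hy⟩ := exists_preimage_verSet hφ (hgX n) (verProj_mem (E.X n).gr q e)
        have hyg : y ∈ GrLC.gam m'.toIdeal (X n).carrier := by
          rw [hgam, hy]
          obtain ⟨s, hs, -⟩ := H4Gr.exists_sum_proj (E.X n).gr (verProj (E.X n).gr q e)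
          rw [← hs]
          refine sum_mem fun i _ => ?_
          rw [proj_verProj]
          split_ifs
          · exact H4Gr.isHomogeneous_gam m i he
          · exact zero_mem _
        have hyz : d n y = z.1 := (hgX (n + 1)).inj (by
          rw [hd, hy]
          refine H4Gr.ext_proj (E.X (n + 1)).gr fun j => ?_
          rw [← H4Gr.map_proj₀ (E.d_grHom n), proj_verProj]
          by_cases hj : (q : ℤ) ∣ j
          · rw [if_pos hj, H4Gr.map_proj₀ (E.d_grHom n), hez]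
          · rw [if_neg hj, map_zero, map_mem_verSet hφ (hgX (n + 1)) z.1 j hj])
        exact ⟨w n y, H4Gr.map_mem_gam _ hyg, by rw [← hwd]; exact congrArg (w (n + 1)) hyz⟩
  obtain ⟨θ, hθi, hθ⟩ := exists_descend a hsurj b hker
  refine ⟨θ, hθi, fun j => le_antisymm ?_ ?_⟩
  · rintro _ ⟨y, hy, rfl⟩
    obtain ⟨z, hz, rfl⟩ := hy
    obtain ⟨x, hx, hxd, hxg, hxz⟩ := hsur p j z hz
    have e : F.toH m' p z = a ⟨x, hx, hxd⟩ := ((H4Gr.toH_eq_iff m' p _ z).2 hxz).symm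
    show θ (F.toH m' p z) ∈ _
    rw [e, hθ]
    exact ⟨_, ver_map_mem hφ (hgX p) hxg, rfl⟩
  · rintro _ ⟨z, hz, rfl⟩
    obtain ⟨x, hx, hxz⟩ := ver_exists_preimage hφ (hgX p) hz
    have hxd : d p x = 0 := (hgX (p + 1)).inj (by rw [hd, hxz, map_zero]; exact z.2.2)
    refine ⟨a ⟨x, (hgam p x).2 (hxz ▸ z.2.1), hxd⟩, ⟨_, hw p j x hx, rfl⟩, ?_⟩
    show θ (a _) = _
    rw [hθ]
    exact congrArg (E.toH m p) (Subtype.ext hxz)

end Groth.Agent.H4Ver
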