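import Groth.Agent.H4Ver.Cohomology
import Groth.Agent.H4GD.Canon

/-!
# Graded duals of Veronese modules
-/

set_option autoImplicit false
set_option linter.unusedSectionVars false
set_option linter.style.haveILetI false

universe u

open DirectSum

namespace Groth.Agent.H4Ver

section Deg0

variable {R : Type u} [CommRing R] {𝒜 : ℤ → AddSubgroup R} [GradedRing 𝒜] {q : ℕ}
variable {R' : Type u} [CommRing R'] {𝒜' : ℤ → AddSubgroup R'} [GradedRing 𝒜'] {φ : R' →+* R}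

/-- The degree zero part of `R` inside the Veronese subring. -/
theorem exists_deg0Hom (hφ : IsVerRing q φ 𝒜' 𝒜) :
    ∃ s : GrLC.deg0 𝒜 →+* R', ∀ c : GrLC.deg0 𝒜, φ (s c) = (c : R) := by
  choose s hs hsc using fun c : GrLC.deg0 𝒜 => exists_preimage hφ (j := 0) (x := (c : R)) (by rw [zero_mul]; exact c.2)
  refine ⟨⟨⟨⟨s, hφ.inj ?_⟩, fun a b => hφ.inj ?_⟩, hφ.inj ?_, fun a b => hφ.inj ?_⟩, hsc⟩
  · rw [hsc, map_one]; rfl
  · show φ (s (a * b)) = φ (s a * s b)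
    rw [map_mul, hsc, hsc, hsc]; rfl
  · show φ (s 0) = φ 0
    rw [hsc, map_zero]; rfl
  · show φ (s (a + b)) = φ (s a + s b)
    rw [map_add, hsc, hsc, hsc]; rfl

end Deg0

variable {k : Type u} [Field k]
variable {R : Type u} [CommRing R] [Algebra k R] {𝒜 : ℤ → AddSubgroup R} [GradedRing 𝒜] {q : ℕ}
variable {R' : Type u} [CommRing R'] [Algebra k R'] {𝒜' : ℤ → AddSubgroup R'} [GradedRing 𝒜'] {φ : R' →+* R}
  (hφ : IsVerRing q φ 𝒜' 𝒜) (hφk : ∀ c : k, φ (algebraMap k R' c) = algebraMap k R c)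
  (hk : ∀ c : k, algebraMap k R c ∈ 𝒜 0) (hsurj : ∀ x ∈ 𝒜 0, ∃ c : k, algebraMap k R c = x)

include hφ hφk hk in
theorem hk' (c : k) : algebraMap k R' c ∈ 𝒜' 0 := by
  obtain ⟨b, hb, hbc⟩ := exists_preimage hφ (j := 0) (x := algebraMap k R c) (by rw [zero_mul]; exact hk c)
  rwa [← hφ.inj (hbc.trans (hφk c).symm)]

include hφ hφk hsurj in
theorem hsurj' (x : R') (hx : x ∈ 𝒜' 0) : ∃ c : k, algebraMap k R' c = x := by
  obtain ⟨c, hc⟩ := hsurj (φ x) (by simpa using map_mem hφ hx)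
  exact ⟨c, hφ.inj ((hφk c).trans hc)⟩

section

variable {M : Type u} [AddCommGroup M] [Module R M] [Module k M] [IsScalarTower k R M]
variable {M' : Type u} [AddCommGroup M'] [Module R' M'] [Module k M'] [IsScalarTower k R' M']

/-- A semilinear presentation as a linear map over the ground field. -/
def kLin (hφk : ∀ c : k, φ (algebraMap k R' c) = algebraMap k R c) (g : M' →ₛₗ[φ] M) : M' →ₗ[k] M where
  toFun := g
  map_add' := map_add g
  map_smul' c x := by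
    rw [RingHom.id_apply, ← algebraMap_smul R' c x, map_smulₛₗ, hφk, algebraMap_smul]

theorem kLin_apply (g : M' →ₛₗ[φ] M) (x : M') : kLin hφk g x = g x := rfl

end

variable {H : Type u} [AddCommGroup H] [Module R H] [Module k H] [IsScalarTower k R H]
  {ℋ : ℤ → AddSubgroup H} [Decomposition ℋ] [SetLike.GradedSMul 𝒜 ℋ]
variable {H' : Type u} [AddCommGroup H'] [Module R' H'] [Module k H'] [IsScalarTower k R' H']
  {ℋ' : ℤ → AddSubgroup H'} [Decomposition ℋ'] [SetLike.GradedSMul 𝒜' ℋ']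
variable {C : Type u} [AddCommGroup C] [Module R C] [Module k C] [IsScalarTower k R C]
  {𝒞 : ℤ → AddSubgroup C} [Decomposition 𝒞] [SetLike.GradedSMul 𝒜 𝒞]
variable {C' : Type u} [AddCommGroup C'] [Module R' C'] [Module k C'] [IsScalarTower k R' C']
  {𝒞' : ℤ → AddSubgroup C'} [Decomposition 𝒞'] [SetLike.GradedSMul 𝒜' 𝒞']

include hφ in
/-- Veronese modules of graded duals are graded duals. -/
theorem gdual_ver {γ : C →ₗ[k] H →ₗ[k] k} (hγ : GrSeg.IsGDual R ℋ 𝒞 γ) {θ : H' →ₛₗ[φ] H} (hθ : IsVer q θ ℋ' ℋ)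
    {g : C' →ₛₗ[φ] C} (hg : IsVer q g 𝒞' 𝒞) :
    GrSeg.IsGDual R' ℋ' 𝒞' ((γ ∘ₗ kLin hφk g).compl₂ (kLin hφk θ)) where
  map_smul r d x := by
    simp only [LinearMap.compl₂_apply, LinearMap.comp_apply, kLin_apply, map_smulₛₗ]
    exact hγ.map_smul _ _ _
  vanish n d hd i hi x hx := hγ.vanish _ _ (ver_map_mem hφ hg hd) _
    (fun e => hi (mul_right_cancel₀ (q_ne_zero hφ) (e.trans (neg_mul n (q : ℤ)).symm))) _ (ver_map_mem hφ hθ hx)
  eq_zero n d hd h := hg.inj ((hγ.eq_zero _ _ (ver_map_mem hφ hg hd) fun y hy => by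
    obtain ⟨x, hx, rfl⟩ := ver_exists_preimage hφ hθ (j := -n) (y := y) (by rwa [neg_mul])
    exact h x hx).trans (map_zero g).symm)
  exists_eq n f := by
    obtain ⟨l, hl⟩ := (kLin hφk θ).exists_leftInverse_of_injective (LinearMap.ker_eq_bot.2 hθ.inj)
    obtain ⟨d, hd, hdf⟩ := hγ.exists_eq (n * q) (f ∘ₗ l)
    obtain ⟨d', hd', rfl⟩ := ver_exists_preimage hφ hg hd
    refine ⟨d', hd', fun x hx => (hdf _ (by rw [← neg_mul]; exact ver_map_mem hφ hθ hx)).trans ?_⟩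
    exact congrArg f (LinearMap.congr_fun hl x)

variable [Nontrivial R] [Nontrivial R'] [IsNoetherianRing R] [IsNoetherianRing R']
  (hpos : ∀ n : ℤ, n < 0 → 𝒜 n = ⊥)
  {m : HomogeneousIdeal 𝒜} (hm : m.toIdeal = Ideal.span (⋃ n ∈ Set.Ioi (0 : ℤ), (𝒜 n : Set R)))
  {m' : HomogeneousIdeal 𝒜'} (hm' : m'.toIdeal = Ideal.span (⋃ j ∈ Set.Ioi (0 : ℤ), (𝒜' j : Set R')))

include hφ hpos in
theorem hpos' (j : ℤ) (hj : j < 0) : 𝒜' j = ⊥ := (AddSubgroup.eq_bot_iff_forall _).2 fun x hx => hφ.inj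
  (((AddSubgroup.eq_bot_iff_forall _).1 (hpos _ (mul_neg_of_neg_of_pos hj (Int.natCast_pos.2 hφ.pos))) _
    (map_mem hφ hx)).trans (map_zero φ).symm)

include hφ hφk hk hsurj hpos hm hm' in
/-- `K_{R^{(q)}} = K_R^{(q)}`. -/
theorem exists_canonical_ver {E : Type u} [AddCommGroup E] [Module R E] {𝓔 : ℤ → AddSubgroup E} [Decomposition 𝓔]
    [SetLike.GradedSMul 𝒜 𝓔] {e : (R ⧸ m.toIdeal) →ₗ[R] E} (he : GrLC.IsStarInjHull 𝒜 (GrLC.quotGr 𝒜 m) 𝓔 e)
    {n : ℕ} {I : GrLC.StarInjRes 𝒜 𝒜} {K : Type u} [AddCommGroup K] [Module R K] {𝒦 : ℤ → AddSubgroup K}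
    [Decomposition 𝒦] [SetLike.GradedSMul 𝒜 𝒦] (hK : GrLC.IsStarCanonical 𝒜 𝒦 𝓔 m n I)
    {E' : Type u} [AddCommGroup E'] [Module R' E'] {𝓔' : ℤ → AddSubgroup E'} [Decomposition 𝓔']
    [SetLike.GradedSMul 𝒜' 𝓔'] {e' : (R' ⧸ m'.toIdeal) →ₗ[R'] E'}
    (he' : GrLC.IsStarInjHull 𝒜' (GrLC.quotGr 𝒜' m') 𝓔' e') {I' : GrLC.StarInjRes 𝒜' 𝒜'}
    {K' : Type u} [AddCommGroup K'] [Module R' K'] {𝒦' : ℤ → AddSubgroup K'}
    [Decomposition 𝒦'] [SetLike.GradedSMul 𝒜' 𝒦'] (hK' : GrLC.IsStarCanonical 𝒜' 𝒦' 𝓔' m' n I') :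
    ∃ g : K' →ₛₗ[φ] K, IsVer q g 𝒦' 𝒦 := by
  letI : Module k E := Module.compHom E (algebraMap k R)
  haveI : IsScalarTower k R E := IsScalarTower.of_algebraMap_smul fun _ _ => rfl
  letI : Module k K := Module.compHom K (algebraMap k R)
  haveI : IsScalarTower k R K := IsScalarTower.of_algebraMap_smul fun _ _ => rfl
  letI : Module k (I.H m n) := Module.compHom (I.H m n) (algebraMap k R)
  haveI : IsScalarTower k R (I.H m n) := IsScalarTower.of_algebraMap_smul fun _ _ => rfl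
  letI := (H4Gr.isInternal_Hgr m I n).chooseDecomposition
  haveI := H4Gr.gradedSMul_Hgr m I n
  obtain ⟨γ, hγ⟩ := H4GD.gdual_of_canonical hk hsurj hpos m hm n I he hK
  letI : Module k E' := Module.compHom E' (algebraMap k R')
  haveI : IsScalarTower k R' E' := IsScalarTower.of_algebraMap_smul fun _ _ => rfl
  letI : Module k K' := Module.compHom K' (algebraMap k R')
  haveI : IsScalarTower k R' K' := IsScalarTower.of_algebraMap_smul fun _ _ => rfl
  letI : Module k (I'.H m' n) := Module.compHom (I'.H m' n) (algebraMap k R')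
  haveI : IsScalarTower k R' (I'.H m' n) := IsScalarTower.of_algebraMap_smul fun _ _ => rfl
  letI := (H4Gr.isInternal_Hgr m' I' n).chooseDecomposition
  haveI := H4Gr.gradedSMul_Hgr m' I' n
  obtain ⟨γ', hγ'⟩ := H4GD.gdual_of_canonical (hk' hφ hφk hk) (hsurj' hφ hφk hsurj) (hpos' hφ hpos) m' hm' n I' he' hK'
  obtain ⟨θ, hθ⟩ := exists_H_ver hφ hm hm' (ringVer hφ) I I' n
  obtain ⟨X, g, hg⟩ := exists_ver hφ 𝒦
  letI : Module k X.carrier := Module.compHom X.carrier (algebraMap k R')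
  haveI : IsScalarTower k R' X.carrier := IsScalarTower.of_algebraMap_smul fun _ _ => rfl
  have hγ'' := gdual_ver hφ hφk hγ hθ hg
  obtain ⟨u, -, hu, hu'⟩ := H4GD.exists_dualEquiv hγ' hγ'' (LinearEquiv.refl R' _)
    (H4Gr.isGrHomDeg_id (ℳ := I'.Hgr m' n)) (by simpa using H4Gr.isGrHomDeg_id (ℳ := I'.Hgr m' n))
  refine ⟨g.comp u.toLinearMap, hg.inj.comp u.injective, fun j => le_antisymm ?_ fun y hy => ?_⟩
  · rintro _ ⟨x, hx, rfl⟩
    exact ver_map_mem hφ hg (by simpa using hu j x hx)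
  · obtain ⟨x, hx, rfl⟩ := ver_exists_preimage hφ hg hy
    refine ⟨u.symm x, by simpa using hu' j x hx, ?_⟩
    show g (u (u.symm x)) = g x
    rw [u.apply_symm_apply]

end Groth.Agent.H4Ver
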