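import Groth.Agent.H4Ver.CM
import Groth.Agent.H4GD.GorCanon

/-!
# Gorenstein Veronese subrings
-/

set_option autoImplicit false
set_option linter.unusedSectionVars false
set_option linter.style.haveILetI false

universe u

open DirectSum

namespace Groth.Agent.H4Ver

section Aux

variable {R : Type u} [CommRing R] {𝒜 : ℤ → AddSubgroup R} [GradedRing 𝒜] {m : HomogeneousIdeal 𝒜}

theorem isStarLocal_of_span (hpos : ∀ n : ℤ, n < 0 → 𝒜 n = ⊥) (h0 : IsField (GrLC.deg0 𝒜))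
    (hm : m.toIdeal = Ideal.span (⋃ n ∈ Set.Ioi (0 : ℤ), (𝒜 n : Set R))) : GrLC.IsStarLocal 𝒜 m := by
  have hle : ∀ J : HomogeneousIdeal 𝒜, J ≠ ⊤ → J ≤ m := fun J hJ x hx => by
    obtain ⟨s, hs, -⟩ := H4Gr.exists_sum_proj 𝒜 x
    rw [← hs]
    show _ ∈ m.toIdeal
    refine Ideal.sum_mem _ fun g _ => ?_
    have hgJ : H4Gr.proj 𝒜 g x ∈ J.toIdeal := J.isHomogeneous g hx
    rcases lt_trichotomy g 0 with h | rfl | h
    · rw [(AddSubgroup.eq_bot_iff_forall _).1 (hpos g h) _ (H4Gr.proj_mem 𝒜 g x)]; exact zero_mem _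
    · by_cases hz : H4Gr.proj 𝒜 0 x = 0
      · rw [hz]; exact zero_mem _
      · obtain ⟨y, hy⟩ := h0.mul_inv_cancel (a := ⟨_, H4Gr.proj_mem 𝒜 0 x⟩) fun e => hz (congrArg Subtype.val e)
        exact absurd (HomogeneousIdeal.toIdeal_injective ((Ideal.eq_top_iff_one _).2
          (show (1 : R) ∈ J.toIdeal from (show H4Gr.proj 𝒜 0 x * (y : R) = 1 from congrArg Subtype.val hy) ▸
            J.toIdeal.mul_mem_right _ hgJ))) hJ
    · exact hm ▸ Ideal.subset_span (Set.mem_iUnion₂.2 ⟨g, h, H4Gr.proj_mem 𝒜 g x⟩)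
  have hne : m ≠ ⊤ := fun e => by
    have h1 : (1 : R) ∈ m.toIdeal := by rw [e, HomogeneousIdeal.toIdeal_top]; trivial
    have h2 : ∀ z ∈ m.toIdeal, H4Gr.proj 𝒜 0 z = 0 := fun z hz => by
      rw [hm] at hz
      suffices H : ∀ c : R, H4Gr.proj 𝒜 0 (c * z) = 0 by simpa using H 1
      induction hz using Submodule.span_induction with
      | mem z hz =>
        obtain ⟨g, hg, hz⟩ := Set.mem_iUnion₂.1 hz
        intro c
        rw [mul_comm, ← smul_eq_mul, H4Gr.proj_smul hz 0 c,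
          (AddSubgroup.eq_bot_iff_forall _).1 (hpos (0 - g) (by have : (0 : ℤ) < g := hg; omega)) _
            (H4Gr.proj_mem 𝒜 _ c), smul_zero]
      | zero => intro c; rw [mul_zero, map_zero]
      | add a b _ _ ha hb => intro c; rw [mul_add, map_add, ha c, hb c, add_zero]
      | smul t a _ ha => intro c; rw [smul_eq_mul, ← mul_assoc]; exact ha (c * t)
    have h3 := h2 1 h1
    rw [H4Gr.proj_same (SetLike.one_mem_graded 𝒜)] at h3
    haveI := h0.nontrivial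
    obtain ⟨a, b, hab⟩ := exists_pair_ne (GrLC.deg0 𝒜)
    exact hab (Subtype.ext (by rw [← mul_one (a : R), ← mul_one (b : R), h3, mul_zero, mul_zero]))
  refine ⟨⟨hne, fun J hJ => by_contra fun h => not_le_of_gt hJ (hle J h)⟩, fun J hJ => ?_⟩
  exact le_antisymm (hle J hJ.1) ((hle J hJ.1).eq_or_lt.elim (fun e => e.ge) fun hlt => absurd (hJ.2 _ hlt) hne)

theorem isCohenMacaulayRing_of_gorenstein (R : Type u) [CommRing R] [LocCoh.IsGorensteinRing R] :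
    LocCoh.IsCohenMacaulayRing R := by
  refine ⟨fun q _ => ?_⟩
  haveI := LocCoh.IsGorensteinRing.isGorensteinLocalRing_localization (A := R) q
  exact H4Goren.isCohenMacaulayLocalRing _

variable [IsNoetherianRing R] (hloc : GrLC.IsStarLocal 𝒜 m)

include hloc in
theorem exists_hull : ∃ (E : GrLC.GMod.{u} 𝒜) (e : (R ⧸ m.toIdeal) →ₗ[R] E.carrier),
    GrLC.IsStarInjHull 𝒜 (GrLC.quotGr 𝒜 m) E.gr e := by
  obtain ⟨J, _, _, hJ, j, hj⟩ := H4Gr.exists_injective_module (R := R) (R ⧸ m.toIdeal)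
  let Q := H4Gr.quotMod 𝒜 (ℳ := 𝒜) (m.toIdeal : Submodule R R) m.isHomogeneous
  obtain ⟨E, f, hf, -⟩ := H4Gr.exists_isStarInjHull (𝒜 := 𝒜) (ℳ := Q.gr) J j hj
  exact ⟨E, f, ⟨⟨hf.injective, fun i x hx => hf.grHom i x (by
    obtain ⟨r, hr, rfl⟩ := hx; exact ⟨r, hr, rfl⟩), hf.essential⟩, hf.starInj⟩⟩

end Aux

section Gor

variable {k : Type u} [Field k] {R : Type u} [CommRing R] [Algebra k R] {𝒜 : ℤ → AddSubgroup R} [GradedRing 𝒜]
  (hk : ∀ c : k, algebraMap k R c ∈ 𝒜 0) (hsurj : ∀ x ∈ 𝒜 0, ∃ c : k, algebraMap k R c = x)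
  (hpos : ∀ n : ℤ, n < 0 → 𝒜 n = ⊥) {m : HomogeneousIdeal 𝒜}
  (hm : m.toIdeal = Ideal.span (⋃ n ∈ Set.Ioi (0 : ℤ), (𝒜 n : Set R))) (hloc : GrLC.IsStarLocal 𝒜 m)
  [LocCoh.IsGorensteinRing R] [LocCoh.IsCohenMacaulayRing R] {n : ℕ} (hn : ringKrullDim R = n) (I : GrLC.StarInjRes 𝒜 𝒜)
  [Module k (I.H m n)] [IsScalarTower k R (I.H m n)] [Decomposition (I.Hgr m n)]

include hk hsurj hpos hm hloc hn in
/-- For a Gorenstein ring, `R(a)` is the graded dual of the top local cohomology, `a` the invariant. -/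
theorem exists_gdual_gor : ∃ (a : ℤ) (γ : R →ₗ[k] I.H m n →ₗ[k] k),
    GrLC.endDeg (I.Hgr m n) = ((a : WithTop ℤ) : WithBot (WithTop ℤ)) ∧
      letI := (H4Gr.isInternal_shiftPieces (ℳ := 𝒜) a).chooseDecomposition
      GrSeg.IsGDual R (I.Hgr m n) (H4Gr.shiftPieces 𝒜 a) γ := by
  haveI := H4Gr.gradedSMul_Hgr m I n
  haveI : Nontrivial R := nontrivial_of_ne 1 0 fun h => hloc.1.1 (HomogeneousIdeal.toIdeal_injective
    ((Ideal.eq_top_iff_one _).2 (h ▸ zero_mem _)))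
  obtain ⟨E, e, he⟩ := exists_hull (𝒜 := 𝒜) hloc
  letI : Module k E.carrier := Module.compHom E.carrier (algebraMap k R)
  haveI : IsScalarTower k R E.carrier := IsScalarTower.of_algebraMap_smul fun _ _ => rfl
  obtain ⟨β, hβ⟩ := H4GD.exists_gdual_hull hk hsurj hpos m hm he.toIsStarEss he.starInj
  obtain ⟨g, φ, hφ⟩ := S13244.result R 𝒜 m hloc n (H4GD.height_eq hpos hloc hn) I E.carrier E.gr e he
  have hφ' := H4GD.isGrHomDeg_symm hφ
  have hflip := H4GD.gdual_flip hk hβ (H4GD.finite_kP hk hsurj 𝒜)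
  let γ : R →ₗ[k] I.H m n →ₗ[k] k := β.flip.compl₂ (φ.toLinearMap.restrictScalars k)
  have hγ : ∀ r h, γ r h = β (φ h) r := fun r h => rfl
  letI := (H4Gr.isInternal_shiftPieces (ℳ := 𝒜) (-g)).chooseDecomposition
  have hdual : GrSeg.IsGDual R (I.Hgr m n) (H4Gr.shiftPieces 𝒜 (-g)) γ :=
    { map_smul := fun s r h => by rw [hγ, hγ, φ.map_smul, hβ.map_smul]
      vanish := fun i r hr j hj h hh => hβ.vanish _ _ (hφ j h hh) _ (fun e' => hj (by omega)) r hr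
      eq_zero := fun i r hr hz => hflip.eq_zero (i + -g) r hr fun y hy => by
        have h0 := hz (φ.symm y) (by
          have := hφ' _ y hy
          rwa [show -(i + -g) + -g = -i by omega] at this)
        rw [hγ, φ.apply_symm_apply] at h0
        exact h0
      exists_eq := fun i G => by
        obtain ⟨r, hr, hrG⟩ := hflip.exists_eq (i + -g) (G ∘ₗ φ.symm.toLinearMap.restrictScalars k)
        refine ⟨r, hr, fun h hh => ?_⟩
        have h1 := hrG (φ h) (by rw [show -(i + -g) = -i + g by omega]; exact hφ _ h hh)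
        refine ((hγ r h).trans h1).trans ?_
        simp }
  refine ⟨-g, γ, le_antisymm ((H4Gr.endDeg_le_iff' (-g)).2 fun j hj => ?_) (le_iSup₂_of_le (-g) (fun hbot => ?_) le_rfl), hdual⟩
  · refine (AddSubgroup.eq_bot_iff_forall _).2 fun h hh => φ.map_eq_zero_iff.1 (H4GD.pair_eq_zero hβ fun r => ?_)
    refine (H4GD.pair_proj_right hβ (hφ j h hh) r).trans ?_
    show β (φ h) _ = 0
    rw [(AddSubgroup.eq_bot_iff_forall _).1 (hpos (-(j + g)) (by omega)) _ (H4Gr.proj_mem 𝒜 _ r), map_zero]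
  · have h1 : (1 : R) ∈ H4Gr.shiftPieces 𝒜 (-g) g := by
      show (1 : R) ∈ 𝒜 (g + -g)
      rw [add_neg_cancel]; exact SetLike.GradedOne.one_mem
    refine one_ne_zero (α := R) (hdual.eq_zero g 1 h1 fun x hx => ?_)
    rw [(AddSubgroup.eq_bot_iff_forall _).1 hbot x hx, map_zero]

end Gor

variable {R : Type u} [CommRing R] {𝒜 : ℤ → AddSubgroup R} [GradedRing 𝒜] {q : ℕ}
variable {R' : Type u} [CommRing R'] {𝒜' : ℤ → AddSubgroup R'} [GradedRing 𝒜'] {φ : R' →+* R}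
  (hφ : IsVerRing q φ 𝒜' 𝒜)

include hφ in
/-- Veronese subrings of Gorenstein rings are Gorenstein when `q` divides the invariant. -/
theorem isGorensteinRing_ver [LocCoh.IsGorensteinRing R] [LocCoh.IsCohenMacaulayRing R]
    (hpos : ∀ n : ℤ, n < 0 → 𝒜 n = ⊥) (h0 : IsField (GrLC.deg0 𝒜)) {m : HomogeneousIdeal 𝒜}
    (hloc : GrLC.IsStarLocal 𝒜 m) (hm : m.toIdeal = Ideal.span (⋃ n ∈ Set.Ioi (0 : ℤ), (𝒜 n : Set R)))
    {n : ℕ} (hn : ringKrullDim R = n) (I : GrLC.StarInjRes 𝒜 𝒜) {a : ℤ}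
    (ha : GrLC.endDeg (I.Hgr m n) = ((a : WithTop ℤ) : WithBot (WithTop ℤ))) (hdvd : (q : ℤ) ∣ a) :
    LocCoh.IsGorensteinRing R' := by
  letI := h0.toField
  obtain ⟨s, hs⟩ := exists_deg0Hom hφ
  letI : Algebra (GrLC.deg0 𝒜) R' := s.toAlgebra
  haveI : Nontrivial R := nontrivial_of_ne 1 0 fun h => hloc.1.1 (HomogeneousIdeal.toIdeal_injective
    ((Ideal.eq_top_iff_one _).2 (h ▸ zero_mem _)))
  haveI : Nontrivial R' := φ.domain_nontrivial
  haveI := isNoetherianRing hφ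
  haveI := isCohenMacaulayRing_ver hφ hpos h0 hloc hm hn
  have hkk := hk' (k := GrLC.deg0 𝒜) hφ (fun c => hs c) fun c => c.2
  have hss := hsurj' (k := GrLC.deg0 𝒜) hφ (fun c => hs c) fun x hx => ⟨⟨x, hx⟩, rfl⟩
  let m' : HomogeneousIdeal 𝒜' := ⟨Ideal.span (⋃ j ∈ Set.Ioi (0 : ℤ), (𝒜' j : Set R')),
    Ideal.homogeneous_span _ _ fun x hx => by
      obtain ⟨j, -, hj⟩ := Set.mem_iUnion₂.1 hx
      exact ⟨j, hj⟩⟩
  have hloc' : GrLC.IsStarLocal 𝒜' m' := isStarLocal_of_span (hpos' hφ hpos) (H4GD.isField_deg0 hkk hss) rfl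
  obtain ⟨I'⟩ := H4Gr.nonempty_starInjRes (𝒜 := 𝒜') (ℳ := 𝒜')
  obtain ⟨E', e', he'⟩ := exists_hull (𝒜 := 𝒜') hloc'
  letI : Module (GrLC.deg0 𝒜) E'.carrier := Module.compHom E'.carrier (algebraMap (GrLC.deg0 𝒜) R')
  haveI : IsScalarTower (GrLC.deg0 𝒜) R' E'.carrier := IsScalarTower.of_algebraMap_smul fun _ _ => rfl
  letI : Module (GrLC.deg0 𝒜) (I'.H m' n) := Module.compHom (I'.H m' n) (algebraMap (GrLC.deg0 𝒜) R')
  haveI : IsScalarTower (GrLC.deg0 𝒜) R' (I'.H m' n) := IsScalarTower.of_algebraMap_smul fun _ _ => rfl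
  letI := (H4Gr.isInternal_Hgr m' I' n).chooseDecomposition
  haveI := H4Gr.gradedSMul_Hgr m' I' n
  haveI : IsScalarTower (GrLC.deg0 𝒜) R (I.H m n) := IsScalarTower.of_algebraMap_smul fun _ _ => rfl
  letI := (H4Gr.isInternal_Hgr m I n).chooseDecomposition
  haveI := H4Gr.gradedSMul_Hgr m I n
  obtain ⟨a', γ, ha', hγ⟩ := exists_gdual_gor (k := GrLC.deg0 𝒜) (fun c => c.2) (fun x hx => ⟨⟨x, hx⟩, rfl⟩)
    hpos hm hloc hn I
  obtain rfl : a = a' := by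
    have h := ha.symm.trans ha'
    exact_mod_cast WithTop.coe_eq_coe.1 (WithBot.coe_eq_coe.1 h)
  obtain ⟨b, rfl⟩ := hdvd
  obtain ⟨θ, hθ⟩ := exists_H_ver (m' := m') hφ hm rfl (ringVer hφ) I I' n
  letI := (H4Gr.isInternal_shiftPieces (ℳ := 𝒜) ((q : ℤ) * b)).chooseDecomposition
  haveI := H4Gr.gradedSMul_shiftPieces (𝒜 := 𝒜) (ℳ := 𝒜) ((q : ℤ) * b)
  letI := (H4Gr.isInternal_shiftPieces (ℳ := 𝒜') b).chooseDecomposition
  haveI := H4Gr.gradedSMul_shiftPieces (𝒜 := 𝒜') (ℳ := 𝒜') b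
  let g : R' →ₛₗ[φ] R := { toFun := φ, map_add' := map_add φ, map_smul' := map_mul φ }
  have hg : IsVer q g (H4Gr.shiftPieces 𝒜' b) (H4Gr.shiftPieces 𝒜 ((q : ℤ) * b)) := ⟨hφ.inj, fun j => by
    show (𝒜' (j + b)).map (φ : R' →+ R) = 𝒜 (j * q + q * b)
    rw [hφ.map_eq, add_mul, mul_comm b]⟩
  have hγ' := gdual_ver hφ (fun c => hs c) hγ hθ hg
  have hC := H4GD.canonical_of_gdual hkk hss (hpos' hφ hpos) m' rfl n I' he' hγ'
  refine (H4GD.isGorensteinRing_iff_exists_shift hkk hss (hpos' hφ hpos) rfl hloc'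
    ((ringKrullDim_eq hφ).trans hn) I' he' hC).2 ⟨-b, LinearMap.id, Function.bijective_id, fun j x hx => ?_⟩
  show x ∈ 𝒜' (j + -b + b)
  rwa [neg_add_cancel_right]

end Groth.Agent.H4Ver
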